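import Groth.Agent.LocZLib.Derived

/-! # Flasque sheaves and sections with supports -/

set_option autoImplicit false
set_option backward.isDefEq.respectTransparency false
set_option linter.style.haveILetI false

universe u

open CategoryTheory CategoryTheory.Limits TopologicalSpace Opposite CategoryTheory.Abelian

noncomputable section

namespace Groth.Agent.LocZLib

variable {X : TopCat.{u}} (U : Opens X)

theorem surjective_res_flasque (F : CohTop.Ab X) [hF : TopCat.Sheaf.IsFlasque F] {W V : Opens X} (h : W ≤ V) :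
    Function.Surjective (F.obj.map (homOfLE h).op) :=
  (AddCommGrpCat.epi_iff_surjective _).mp (hF.epi _)

theorem isFlasque_of_surjective (F : CohTop.Ab X)
    (h : ∀ {W V : Opens X} (h : W ≤ V), Function.Surjective (F.obj.map (homOfLE h).op)) :
    TopCat.Sheaf.IsFlasque F :=
  ⟨fun {_ _} i => (AddCommGrpCat.epi_iff_surjective _).mpr (h (leOfHom i.unop))⟩

instance isFlasque_injective (I : CohTop.Ab X) [Injective I] : TopCat.Sheaf.IsFlasque I :=
  isFlasque_of_surjective I fun h => surjective_res_injective I h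

/-- An embedding into an injective, with flasque cokernel for a flasque sheaf. -/
theorem exists_flasque_embedding (F : CohTop.Ab X) [hF : TopCat.Sheaf.IsFlasque F] :
    ∃ T : ShortComplex (CohTop.Ab X), T.ShortExact ∧ T.X₁ = F ∧ Injective T.X₂ ∧ TopCat.Sheaf.IsFlasque T.X₃ := by
  let T : ShortComplex (CohTop.Ab X) := ShortComplex.mk (Injective.ι F) (cokernel.π _) (cokernel.condition _)
  have hT : T.ShortExact :=
    { exact := ShortComplex.exact_of_g_is_cokernel _ (cokernelIsCokernel _)
      mono_f := inferInstanceAs (Mono (Injective.ι F))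
      epi_g := inferInstanceAs (Epi (cokernel.π _)) }
  haveI : TopCat.Sheaf.IsFlasque T.X₁ := hF
  haveI : TopCat.Sheaf.IsFlasque T.X₂ := isFlasque_injective (Injective.under F)
  exact ⟨T, hT, rfl, inferInstanceAs (Injective (Injective.under F)),
    TopCat.Sheaf.IsFlasque.of_shortExact_of_isFlasque₁₂ hT⟩

/-- Flasque sheaves are acyclic on opens. -/
theorem subsingleton_HU_flasque (V : Opens X) : ∀ (n : ℕ) (F : CohTop.Ab X) [TopCat.Sheaf.IsFlasque F],
    Subsingleton (CohTop.HU F (n + 1) V)
  | 0, F, _ => by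
    obtain ⟨T, hT, rfl, hinj, hQ⟩ := exists_flasque_embedding F
    let J := Opens.grothendieckTopology X
    refine subsingleton_of_forall_eq 0 fun z => ?_
    obtain ⟨w, rfl⟩ := Ext.covariant_sequence_exact₁ _ hT z (Ext.eq_zero_of_injective _) (by omega : 0 + 1 = 1)
    obtain ⟨φ, rfl⟩ := Ext.addEquiv₀.symm.surjective w
    haveI : Epi (T.g.1.app (op V)) := TopCat.Sheaf.IsFlasque.epi_of_shortExact hT
    obtain ⟨s, hs⟩ := (AddCommGrpCat.epi_iff_surjective (T.g.1.app (op V))).mp inferInstance
      (CohFree.evalGen J V T.X₃ φ)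
    have e : φ = CohFree.ofSect J V T.X₂ s ≫ T.g := by
      rw [← CohFree.ofSect_evalGen J V T.X₃ (CohFree.ofSect J V T.X₂ s ≫ T.g),
        ← CohFree.ofSect_evalGen J V T.X₃ φ]
      congr 1
      refine hs.symm.trans ?_
      exact (congrArg (T.g.1.app (op V)) (CohFree.evalGen_ofSect J V T.X₂ s)).symm
    subst e
    exact (congrArg (fun e => Ext.comp e hT.extClass (by omega : 0 + 1 = 1)) (Ext.mk₀_comp_mk₀ _ _).symm).trans
      ((Ext.comp_assoc _ _ _ (by omega) (by omega) (by omega)).trans
        ((congrArg (fun e => Ext.comp _ e (by omega : 0 + 1 = 1)) hT.comp_extClass).trans (by simp)))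
  | n + 1, F, _ => by
    obtain ⟨T, hT, rfl, hinj, hQ⟩ := exists_flasque_embedding F
    refine subsingleton_of_forall_eq 0 fun z => ?_
    obtain ⟨w, rfl⟩ := Ext.covariant_sequence_exact₁ _ hT z (Ext.eq_zero_of_injective _) (by omega : n + 1 + 1 = n + 1 + 1)
    haveI := hQ
    rw [(subsingleton_HU_flasque V n T.X₃).elim w 0, Ext.zero_comp]

theorem surjective_res_zero_iff (F : CohTop.Ab X) {W V : Opens X} (h : W ≤ V) :
    Function.Surjective (CohTop.res F 0 h) ↔ Function.Surjective (F.obj.map (homOfLE h).op) := by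
  let J := Opens.grothendieckTopology X
  have key : ∀ φ, CohTop.res F 0 h (Ext.addEquiv₀.symm φ) = Ext.addEquiv₀.symm (CohCx.freeSheafMap J (homOfLE h) ≫ φ) :=
    fun φ => Ext.mk₀_comp_mk₀ _ _
  refine ⟨fun hs s => ?_, fun hs y => ?_⟩
  · obtain ⟨x, hx⟩ := hs (Ext.addEquiv₀.symm (CohFree.ofSect J W F s))
    obtain ⟨φ, rfl⟩ := Ext.addEquiv₀.symm.surjective x
    refine ⟨CohFree.evalGen J V F φ, ?_⟩
    rw [← CohFree.evalGen_freeSheafMap_comp]
    exact (congrArg (CohFree.evalGen J W F) (Ext.addEquiv₀.symm.injective ((key φ).symm.trans hx))).trans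
      (CohFree.evalGen_ofSect _ _ _ _)
  · obtain ⟨ψ, rfl⟩ := Ext.addEquiv₀.symm.surjective y
    obtain ⟨t, ht⟩ := hs (CohFree.evalGen J W F ψ)
    refine ⟨Ext.addEquiv₀.symm (CohFree.ofSect J V F t), (key _).trans (congrArg _ ?_)⟩
    refine ((CohFree.ofSect_evalGen J W F _).symm.trans ?_).trans (CohFree.ofSect_evalGen J W F ψ)
    rw [CohFree.evalGen_freeSheafMap_comp, CohFree.evalGen_ofSect, ht]

theorem subsingleton_HZ_flasque (F : CohTop.Ab X) [TopCat.Sheaf.IsFlasque F] {W V : Opens X} (h : W ≤ V) (i : ℕ) :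
    Subsingleton (LocCohZ.HZ F (i + 1) h) := by
  haveI := subsingleton_HU_flasque V i F
  rw [subsingleton_HZ_succ_iff]
  refine ⟨?_, fun a b _ => Subsingleton.elim a b⟩
  cases i with
  | zero => exact (surjective_res_zero_iff F h).mpr (surjective_res_flasque F h)
  | succ n =>
    haveI := subsingleton_HU_flasque W n F
    exact fun y => ⟨0, Subsingleton.elim _ y⟩

theorem isZero_HZsh_flasque : ∀ (i : ℕ) (F : CohTop.Ab X) [TopCat.Sheaf.IsFlasque F],
    IsZero ((LocCohZ.HZsh U (i + 1)).obj F)
  | 0, F, _ => isZero_HZsh_one_of_surjective U F fun _ => surjective_res_flasque F _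
  | i + 1, F, _ => by
    obtain ⟨T, hT, rfl, hinj, hQ⟩ := exists_flasque_embedding F
    haveI := hQ
    exact (isZero_succ_iff (LocCohZ.sectSuppF U) hT (i + 1)
      ((LocCohZ.sectSuppF U).isZero_rightDerived_obj_injective_succ i T.X₂)
      ((LocCohZ.sectSuppF U).isZero_rightDerived_obj_injective_succ (i + 1) T.X₂)).mpr (isZero_HZsh_flasque i T.X₃)

/-- A section comes from the subsheaf with supports iff it vanishes on the open. -/
theorem mem_range_suppι_iff (F : CohTop.Ab X) (V : Opens X) (s : F.obj.obj (op V)) :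
    (∃ t, ((suppι U).app F).hom.app (op V) t = s) ↔ F.obj.map (homOfLE (inf_le_left : V ⊓ U ≤ V)).op s = 0 := by
  let J := Opens.grothendieckTopology X
  have hu : ((outsideUnit U).app F).hom.app (op V) s = 0 ↔ F.obj.map (homOfLE (inf_le_left : V ⊓ U ≤ V)).op s = 0 := by
    rw [unit_app_eq]
    change ((CohTop.push (CohCx.incl U)).map ((restrPullIso U).hom.app F)).hom.app (op V)
      (((restrPushAdj U).unit.app F).hom.app (op V) s) = 0 ↔ _
    have h1 : Function.Injective (((CohTop.push (CohCx.incl U)).map ((restrPullIso U).hom.app F)).hom.app (op V)) := by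
      rw [← AddCommGrpCat.mono_iff_injective]
      exact inferInstanceAs (Mono (((sheafToPresheaf _ _).map
        ((CohTop.push (CohCx.incl U)).map ((restrPullIso U).hom.app F))).app (op V)))
    rw [map_eq_zero_iff _ h1]
    have e : ((restrPushAdj U).unit.app F).hom.app (op V) =
        F.obj.map (homOfLE (inf_le_left : V ⊓ U ≤ V)).op ≫ F.obj.map (eqToHom (functor_map_eq U V)).op := by
      rw [← F.obj.map_comp]
      rfl
    rw [e]
    exact map_eq_zero_iff _ ((AddCommGrpCat.mono_iff_injective (F.obj.map (eqToHom (functor_map_eq U V)).op)).mp inferInstance)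
  rw [← hu]
  refine ⟨?_, fun h => ?_⟩
  · rintro ⟨t, rfl⟩
    exact ConcreteCategory.congr_hom (congrArg (fun z => z.hom.app (op V)) (suppι_unit U F)) t
  · have h0 : CohFree.ofSect J V F s ≫ (outsideUnit U).app F = 0 := by
      refine (CohFree.ofSect_evalGen J V _ _).symm.trans (((congrArg (CohFree.ofSect J V _) ?_)).trans
        ((congrArg (CohFree.ofSect J V _) (map_zero (CohFree.evalGen J V _)).symm).trans (CohFree.ofSect_evalGen J V _ 0)))
      exact (congrArg (((outsideUnit U).app F).hom.app (op V)) (CohFree.evalGen_ofSect J V F s)).trans h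
    refine ⟨CohFree.evalGen J V _ (kernel.lift _ (CohFree.ofSect J V F s) h0), ?_⟩
    exact (congrArg (CohFree.evalGen J V F) (kernel.lift_ι _ _ h0)).trans (CohFree.evalGen_ofSect J V F s)

theorem isFlasque_sectSupp (A : CohTop.Ab X) [TopCat.Sheaf.IsFlasque A] :
    TopCat.Sheaf.IsFlasque ((LocCohZ.sectSuppF U).obj A) := by
  refine isFlasque_of_surjective _ fun {W V} hWV t => ?_
  let s := ((suppι U).app A).hom.app (op W) t
  have hs := (mem_range_suppι_iff U A W s).mp ⟨t, rfl⟩
  let cov : Bool → Opens X := fun b => if b then W else V ⊓ U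
  let sf : ∀ b, A.obj.obj (op (cov b)) := fun b => match b with
    | true => s
    | false => 0
  have hc : TopCat.Presheaf.IsCompatible A.obj cov sf := by
    rintro (_ | _) (_ | _)
    · rfl
    · refine (map_zero _).trans ?_
      have hle : cov false ⊓ cov true ≤ W ⊓ U := le_inf inf_le_right (inf_le_left.trans inf_le_right)
      refine ((congrArg (A.obj.map (homOfLE hle).op) hs).trans (map_zero _)).symm.trans ?_
      exact (ConcreteCategory.congr_hom (A.obj.map_comp (homOfLE (inf_le_left : W ⊓ U ≤ W)).op (homOfLE hle).op) s).symm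
    · refine Eq.symm ((map_zero _).trans ?_)
      have hle : cov true ⊓ cov false ≤ W ⊓ U := le_inf inf_le_left (inf_le_right.trans inf_le_right)
      refine ((congrArg (A.obj.map (homOfLE hle).op) hs).trans (map_zero _)).symm.trans ?_
      exact (ConcreteCategory.congr_hom (A.obj.map_comp (homOfLE (inf_le_left : W ⊓ U ≤ W)).op (homOfLE hle).op) s).symm
    · rfl
  obtain ⟨g, hg, -⟩ := TopCat.Sheaf.existsUnique_gluing' A cov (W ⊔ (V ⊓ U))
    (fun b => homOfLE (by cases b <;> simp [cov])) (sup_le (le_iSup cov true) (le_iSup cov false)) sf hc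
  obtain ⟨a, ha⟩ := surjective_res_flasque A (show W ⊔ (V ⊓ U) ≤ V from sup_le hWV inf_le_left) g
  have hres : ∀ (b : Bool) (h : cov b ≤ V), A.obj.map (homOfLE h).op a = sf b := fun b h => by
    rw [← hg b, ← ha]
    exact ConcreteCategory.congr_hom (A.obj.map_comp _ _) a
  obtain ⟨t', ht'⟩ := (mem_range_suppι_iff U A V a).mpr (hres false inf_le_left)
  refine ⟨t', ?_⟩
  have hinj : Function.Injective (((suppι U).app A).hom.app (op W)) := by
    haveI : Mono ((suppι U).app A) := inferInstanceAs (Mono (kernel.ι ((outsideUnit U).app A)))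
    rw [← AddCommGrpCat.mono_iff_injective]
    exact inferInstanceAs (Mono (((sheafToPresheaf _ _).map ((suppι U).app A)).app (op W)))
  refine hinj ?_
  refine (NatTrans.naturality_apply ((suppι U).app A).hom (homOfLE hWV).op t').trans ?_
  exact (congrArg (A.obj.map (homOfLE hWV).op) ht').trans (hres true hWV)

end Groth.Agent.LocZLib
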