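import Groth.Agent.RpushLib.Main
import Groth.Agent.DCohLib.Restrict
import Groth.Agent.DCohLib.ProjFlf
import Groth.Agent.DCohLib.MVOpen
import Groth.Agent.QCohLib.Exact
import Groth.Agent.QCohLib.Push
import Groth.Agent.SpSeqLib.DerivedSeq
import Groth.Agent.SpSeqLib.DerivedComp
import Groth.Prelude.Def_CxOX
import Groth.Prelude.Def_LocCohZ

/-!
# Quasi-coherence of the local cohomology modules
-/

set_option autoImplicit false
set_option backward.isDefEq.respectTransparency false
set_option linter.style.haveILetI false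

universe u

open CategoryTheory CategoryTheory.Limits AlgebraicGeometry TopologicalSpace Opposite

noncomputable section

namespace Groth.Agent.LocZLib.GammaQCoh

variable {U Y : Scheme.{u}} (j : U ⟶ Y) [IsOpenImmersion j]

abbrev out : Y.Modules ⥤ Y.Modules :=
  Scheme.Modules.restrictFunctor j ⋙ Scheme.Modules.pushforward j

abbrev outUnit : 𝟭 Y.Modules ⟶ out j := (Scheme.Modules.restrictAdjunction j).unit

theorem ι_unit (F : Y.Modules) : (CxOX.gammaZι j).app F ≫ (outUnit j).app F = 0 :=
  kernel.condition _

instance mono_ι (F : Y.Modules) : Mono ((CxOX.gammaZι j).app F) :=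
  inferInstanceAs (Mono (kernel.ι ((Scheme.Modules.restrictAdjunction j).unit.app F)))

instance preservesFiniteLimits_out : PreservesFiniteLimits (out j) := comp_preservesFiniteLimits _ _

instance additive_out : (out j).Additive := Functor.additive_of_preserves_binary_products _

instance preservesFiniteLimits_gammaZ : PreservesFiniteLimits (DCoh.gammaZ j) := by
  refine (Functor.preservesFiniteLimits_tfae (DCoh.gammaZ j)).out 0 3 |>.mp ?_
  intro S hS
  haveI := hS.mono_f
  haveI : Mono ((DCoh.gammaZ j).map S.f) := by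
    haveI : Mono ((DCoh.gammaZ j).map S.f ≫ (CxOX.gammaZι j).app S.X₂) := by
      rw [(CxOX.gammaZι j).naturality S.f]
      exact mono_comp _ _
    exact mono_of_mono _ ((CxOX.gammaZι j).app S.X₂)
  haveI : Mono ((out j).map S.f) := (out j).map_mono _
  refine ⟨?_, inferInstance⟩
  haveI : Mono (S.map (DCoh.gammaZ j)).f := inferInstanceAs (Mono ((DCoh.gammaZ j).map S.f))
  refine ShortComplex.exact_of_f_is_kernel _ (KernelFork.IsLimit.ofι' _ _ fun {T} z hz => ?_)
  have hz' : (z ≫ (CxOX.gammaZι j).app S.X₂) ≫ S.g = 0 := by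
    rw [Category.assoc, show (CxOX.gammaZι j).app S.X₂ ≫ S.g = (DCoh.gammaZ j).map S.g ≫ (CxOX.gammaZι j).app S.X₃ from
      ((CxOX.gammaZι j).naturality S.g).symm, ← Category.assoc]
    exact (congrArg (· ≫ _) hz).trans zero_comp
  obtain ⟨w, hw⟩ := KernelFork.IsLimit.lift' hS.exact.fIsKernel _ hz'
  have hw0 : w ≫ (outUnit j).app S.X₁ = 0 := by
    rw [← cancel_mono ((out j).map S.f), Category.assoc, ← (outUnit j).naturality S.f, zero_comp,
      Functor.id_map, ← Category.assoc, show w ≫ S.f = _ from hw, Category.assoc, ι_unit, comp_zero]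
  refine ⟨kernel.lift _ w hw0, ?_⟩
  rw [← cancel_mono ((CxOX.gammaZι j).app S.X₂), Category.assoc]
  refine Eq.trans ?_ hw
  show kernel.lift _ w hw0 ≫ (DCoh.gammaZ j).map S.f ≫ (CxOX.gammaZι j).app S.X₂ = w ≫ S.f
  rw [(CxOX.gammaZι j).naturality S.f, ← Category.assoc]
  exact congrArg (· ≫ S.f) (kernel.lift_ι _ w hw0)

theorem shortExact_injective (I : Y.Modules) (hI : Injective I) :
    (ShortComplex.mk ((CxOX.gammaZι j).app I) ((outUnit j).app I) (ι_unit j I)).ShortExact where
  exact := ShortComplex.exact_of_f_is_kernel _ (kernelIsKernel ((Scheme.Modules.restrictAdjunction j).unit.app I))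
  mono_f := mono_ι j I
  epi_g := by
    refine (Scheme.Modules.toPresheaf Y).epi_of_epi_map (f := (outUnit j).app I) ?_
    haveI : ∀ V, Epi (((Scheme.Modules.toPresheaf Y).map ((outUnit j).app I)).app V) := fun V => by
      rw [AddCommGrpCat.epi_iff_surjective]
      intro s
      show ∃ t, ((Scheme.Modules.restrictAdjunction j).unit.app I).app V.unop t = s
      rw [Scheme.Modules.restrictAdjunction_unit_app_app]
      exact DCohLib.surjective_res_injective' I (j.image_preimage_le V.unop) s
    exact NatTrans.epi_of_epi_app _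

/-- Restriction along an isomorphism as an equivalence. -/
def restrictEquivalence {Z : Scheme.{u}} (e : U ≅ Z) : Z.Modules ≌ U.Modules :=
  CategoryTheory.Equivalence.mk (Scheme.Modules.restrictFunctor e.hom) (Scheme.Modules.restrictFunctor e.inv)
    (Scheme.Modules.restrictFunctorId.symm ≪≫ Scheme.Modules.restrictFunctorCongr e.inv_hom_id.symm ≪≫
      Scheme.Modules.restrictFunctorComp e.inv e.hom)
    ((Scheme.Modules.restrictFunctorComp e.hom e.inv).symm ≪≫ Scheme.Modules.restrictFunctorCongr e.hom_inv_id ≪≫
      Scheme.Modules.restrictFunctorId)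

theorem injective_restrict (I : Y.Modules) (hI : Injective I) :
    Injective ((Scheme.Modules.restrictFunctor j).obj I) := by
  let e := j.isoOpensRange
  haveI := DCohLib.injective_restrict j.opensRange I
  haveI : Injective ((Scheme.Modules.restrictFunctor e.hom).obj
      ((Scheme.Modules.restrictFunctor j.opensRange.ι).obj I)) :=
    Injective.injective_of_adjoint (restrictEquivalence e).symm.toAdjunction _
  refine Injective.of_iso (((Scheme.Modules.restrictFunctorCongr j.isoOpensRange_hom_ι.symm) ≪≫
    Scheme.Modules.restrictFunctorComp e.hom j.opensRange.ι).app I).symm ?_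
  assumption

theorem isQCoh_gammaZ [QuasiCompact j] (F : Y.Modules) (hF : Coh.IsQCoh F) :
    Coh.IsQCoh ((DCoh.gammaZ j).obj F) := by
  haveI : Coh.IsQCoh ((Scheme.Modules.restrictFunctor j).obj F) := by
    haveI := hF
    infer_instance
  exact (QCohLib.isQCoh_image ((Scheme.Modules.restrictAdjunction j).unit.app F) hF
    (QCohLib.isQCoh_pushforward _ j)).1

/-- The local cohomology modules of a quasi-coherent module are quasi-coherent. -/
theorem isQCoh_HZshM [QuasiCompact j] [HasInjectiveResolutions Y.Modules] [HasInjectiveResolutions U.Modules]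
    (M : Y.Modules) (hM : Coh.IsQCoh M) : ∀ q, Coh.IsQCoh ((LocCohZ.HZshM j q).obj M) := by
  haveI := hM
  let w := fun F : Y.Modules => ι_unit j F
  let hex := fun (I : Y.Modules) (hI : Injective I) => shortExact_injective j I hI
  have hG : ∀ (q : ℕ) (F : Y.Modules), IsZero (((𝟭 Y.Modules).rightDerived (q + 1)).obj F) := fun q F =>
    IsZero.of_iso ((injectiveResolution F).cocomplex_exactAt_succ q).isZero_homology
      ((injectiveResolution F).isoRightDerivedObj (𝟭 Y.Modules) (q + 1))
  have hH : ∀ q, Coh.IsQCoh (((out j).rightDerived q).obj M) := fun q => by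
    refine (SheafOfModules.isQuasicoherent Y.ringCatSheaf).prop_of_iso
      ((SpSeqLib.rightDerivedPrecompIso (Scheme.Modules.restrictFunctor j) (injective_restrict j)
        (Scheme.Modules.pushforward j) q).app M).symm ?_
    haveI : Coh.IsQCoh ((Scheme.Modules.restrictFunctor j).obj M) := inferInstance
    exact RpushLib.isQCoh_rpush (f := j) (M := (Scheme.Modules.restrictFunctor j).obj M) q
  intro q
  rcases q with _ | _ | q
  · exact (SheafOfModules.isQuasicoherent Y.ringCatSheaf).prop_of_iso
      ((DCoh.gammaZ j).rightDerivedZeroIsoSelf.app M).symm (isQCoh_gammaZ j M hM)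
  · obtain ⟨i⟩ := SpSeqLib.nonempty_derivedOne_iso (CxOX.gammaZι j) (outUnit j) w hex hG
    refine (SheafOfModules.isQuasicoherent Y.ringCatSheaf).prop_of_iso
      (i.app M ≪≫ PreservesCokernel.iso ((evaluation Y.Modules Y.Modules).obj M) (outUnit j)).symm ?_
    haveI : Coh.IsQCoh ((Scheme.Modules.restrictFunctor j).obj M) := inferInstance
    exact (QCohLib.isQCoh_image ((outUnit j).app M) hM (QCohLib.isQCoh_pushforward _ j)).2
  · haveI := SpSeqLib.isIso_derivedδ (CxOX.gammaZι j) (outUnit j) w hex hG q
    exact (SheafOfModules.isQuasicoherent Y.ringCatSheaf).prop_of_iso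
      ((asIso (SpSeqLib.derivedδ (CxOX.gammaZι j) (outUnit j) w hex (q + 1))).app M) (hH (q + 1))

end Groth.Agent.LocZLib.GammaQCoh
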