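import Mathlib
import Groth.Prelude.Def_LocCohZ
import Groth.Agent.KInj.Restrict

/-!
# Sections with supports in a closed subset of a space: restriction, the unit, left exactness
-/

set_option autoImplicit false
set_option backward.isDefEq.respectTransparency false
set_option linter.style.haveILetI false

universe u

open CategoryTheory CategoryTheory.Limits TopologicalSpace Opposite

noncomputable section

namespace Groth.Agent.LocZLib

section General

variable {W X : TopCat.{u}} {g : W ⟶ X} (H : Topology.IsOpenEmbedding g)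

/-- Restriction along an open embedding of abelian sheaves. -/
def restrOpen : CohTop.Ab X ⥤ CohTop.Ab W :=
  haveI := H.functor_isContinuous
  H.isOpenMap.functor.sheafPushforwardContinuous AddCommGrpCat.{u} (Opens.grothendieckTopology W) (Opens.grothendieckTopology X)

/-- Restriction is left adjoint to direct image. -/
def restrOpenAdj : restrOpen H ⊣ TopCat.Sheaf.pushforward AddCommGrpCat.{u} g :=
  haveI := H.functor_isContinuous
  H.isOpenMap.adjunction.sheafPushforwardContinuous (Opens.grothendieckTopology W) (Opens.grothendieckTopology X)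

/-- Extension by zero. -/
def extendOpen : CohTop.Ab W ⥤ CohTop.Ab X :=
  haveI := H.functor_isContinuous
  Functor.sheafPullbackConstruction.sheafPullback H.isOpenMap.functor AddCommGrpCat.{u}
    (Opens.grothendieckTopology W) (Opens.grothendieckTopology X)

/-- Extension by zero is left adjoint to restriction. -/
def extendOpenAdj : extendOpen H ⊣ restrOpen H :=
  haveI := H.functor_isContinuous
  Functor.sheafPullbackConstruction.sheafAdjunctionContinuous H.isOpenMap.functor AddCommGrpCat.{u}
    (Opens.grothendieckTopology W) (Opens.grothendieckTopology X)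

theorem preservesMonomorphisms_extendOpen (h : KInj.HasComponentTerminals H.isOpenMap.functor.op) :
    (extendOpen H).PreservesMonomorphisms := by
  haveI := H.functor_isContinuous
  haveI := KInj.preservesMonomorphisms_lan (A := AddCommGrpCat.{u}) _ h
  exact ⟨fun f _ => inferInstanceAs (Mono ((presheafToSheaf (Opens.grothendieckTopology X) _).map
      (H.isOpenMap.functor.op.lan.map f.hom)))⟩

end General

variable {X : TopCat.{u}} (U : Opens X)

/-- Restriction is left adjoint to direct image along an open inclusion. -/
def restrPushAdj : CohTop.restrFunctor U ⊣ CohTop.push (CohCx.incl U) :=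
  restrOpenAdj (g := CohCx.incl U) U.isOpenEmbedding

/-- The inverse image along an open inclusion is restriction. -/
def restrPullIso : CohTop.restrFunctor U ≅ CohTop.pull (CohCx.incl U) :=
  (restrPushAdj U).leftAdjointUniq (TopCat.Sheaf.pullbackPushforwardAdjunction AddCommGrpCat.{u} (CohCx.incl U))

instance isRightAdjoint_restr : (CohTop.restrFunctor U).IsRightAdjoint :=
  (extendOpenAdj (g := CohCx.incl U) U.isOpenEmbedding).isRightAdjoint

instance isLeftAdjoint_restr : (CohTop.restrFunctor U).IsLeftAdjoint := (restrPushAdj U).isLeftAdjoint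

theorem hasComponentTerminals :
    KInj.HasComponentTerminals (U.isOpenEmbedding.isOpenMap.functor).op := by
  intro V
  let pre : Opens (U : Type u) := ⟨Subtype.val ⁻¹' (V.unop : Set X), V.unop.2.preimage continuous_subtype_val⟩
  refine ⟨ULift.{u} (PLift ((V.unop : Set X) ⊆ (U : Set X))), fun hV => CostructuredArrow.mk (Y := op pre) (homOfLE ?_).op, fun x => ?_⟩
  · intro a ha
    exact ⟨⟨a, hV.down.down ha⟩, ha, rfl⟩
  · have hx : V.unop ≤ U.isOpenEmbedding.isOpenMap.functor.obj x.left.unop := leOfHom x.hom.unop
    have hsub : (V.unop : Set X) ⊆ (U : Set X) := fun a ha => by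
      obtain ⟨b, -, rfl⟩ := hx ha
      exact b.2
    refine ⟨⟨⟨⟨hsub⟩⟩, CostructuredArrow.homMk (homOfLE ?_).op (Subsingleton.elim _ _)⟩, trivial, ?_⟩
    · intro b hb
      obtain ⟨b', hb', he⟩ := hx hb
      obtain rfl : b' = b := Subtype.ext he
      exact hb'
    · rintro ⟨⟨⟨hsub'⟩⟩, g⟩ -
      refine Sigma.ext rfl (heq_of_eq ?_)
      apply CostructuredArrow.hom_ext
      exact Subsingleton.elim _ _

instance injective_restr (I : CohTop.Ab X) [Injective I] : Injective ((CohTop.restrFunctor U).obj I) := by
  haveI := preservesMonomorphisms_extendOpen (g := CohCx.incl U) U.isOpenEmbedding (hasComponentTerminals U)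
  exact Injective.injective_of_adjoint (extendOpenAdj (g := CohCx.incl U) U.isOpenEmbedding) I

instance preservesFiniteLimits_pull : PreservesFiniteLimits (CohTop.pull (CohCx.incl U)) :=
  preservesFiniteLimits_of_natIso (restrPullIso U)

instance preservesFiniteColimits_pull : PreservesFiniteColimits (CohTop.pull (CohCx.incl U)) :=
  preservesFiniteColimits_of_natIso (restrPullIso U)

instance additive_pull : (CohTop.pull (CohCx.incl U)).Additive :=
  Functor.additive_of_iso (restrPullIso U)

instance preservesMono_pull : (CohTop.pull (CohCx.incl U)).PreservesMonomorphisms :=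
  preservesMonomorphisms_of_preservesLimitsOfShape _

instance injective_pull (I : CohTop.Ab X) [Injective I] : Injective ((CohTop.pull (CohCx.incl U)).obj I) :=
  Injective.of_iso ((restrPullIso U).app I) inferInstance

instance injective_push (J : CohTop.Ab (TopCat.of U)) [Injective J] : Injective ((CohTop.push (CohCx.incl U)).obj J) :=
  haveI : (TopCat.Sheaf.pullback AddCommGrpCat.{u} (CohCx.incl U)).PreservesMonomorphisms := preservesMono_pull U
  Injective.injective_of_adjoint (TopCat.Sheaf.pullbackPushforwardAdjunction AddCommGrpCat.{u} (CohCx.incl U)) J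

/-- Restriction and direct image: the functor `F ↦ j_* (F|_U)`. -/
abbrev outside : CohTop.Ab X ⥤ CohTop.Ab X := CohTop.pull (CohCx.incl U) ⋙ CohTop.push (CohCx.incl U)

instance preservesFiniteLimits_push : PreservesFiniteLimits (CohTop.push (CohCx.incl U)) :=
  haveI : PreservesLimitsOfSize.{0, 0} (CohTop.push (CohCx.incl U)) :=
    (TopCat.Sheaf.pullbackPushforwardAdjunction AddCommGrpCat.{u} (CohCx.incl U)).rightAdjoint_preservesLimits
  inferInstance

instance additive_push : (CohTop.push (CohCx.incl U)).Additive :=
  haveI : (TopCat.Sheaf.pullback AddCommGrpCat.{u} (CohCx.incl U)).Additive := additive_pull U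
  (TopCat.Sheaf.pullbackPushforwardAdjunction AddCommGrpCat.{u} (CohCx.incl U)).right_adjoint_additive

instance additive_outside : (outside U).Additive := inferInstance

instance preservesFiniteLimits_outside : PreservesFiniteLimits (outside U) := comp_preservesFiniteLimits _ _

/-- The unit `F ⟶ j_* (F|_U)`. -/
abbrev outsideUnit : 𝟭 (CohTop.Ab X) ⟶ outside U :=
  (TopCat.Sheaf.pullbackPushforwardAdjunction AddCommGrpCat.{u} (CohCx.incl U)).unit

/-- The unit followed by the comparison with restriction is given by restriction of sections. -/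
theorem unit_app_eq (F : CohTop.Ab X) :
    (outsideUnit U).app F = (restrPushAdj U).unit.app F ≫ (CohTop.push (CohCx.incl U)).map ((restrPullIso U).hom.app F) :=
  ((restrPushAdj U).unit_leftAdjointUniq_hom_app
    (TopCat.Sheaf.pullbackPushforwardAdjunction AddCommGrpCat.{u} (CohCx.incl U)) F).symm

theorem functor_map_eq (V : Opens X) :
    U.isOpenEmbedding.isOpenMap.functor.obj ((Opens.map (CohCx.incl U)).obj V) = V ⊓ U := by
  ext x
  constructor
  · rintro ⟨b, hb, rfl⟩
    exact ⟨hb, b.2⟩
  · rintro ⟨hV, hU⟩
    exact ⟨⟨x, hU⟩, hV, rfl⟩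

/-- Surjectivity of the restrictions makes the unit an epimorphism. -/
theorem epi_unit_of_surjective {F : CohTop.Ab X}
    (h : ∀ V : Opens X, Function.Surjective (F.obj.map (homOfLE (inf_le_left : V ⊓ U ≤ V)).op)) :
    Epi ((outsideUnit U).app F) := by
  rw [unit_app_eq]
  haveI : Epi ((restrPushAdj U).unit.app F) := by
    refine ⟨fun {Z} g g' hg => ?_⟩
    apply Sheaf.hom_ext
    ext W s
    obtain ⟨t, ht⟩ := h W.unop (F.obj.map (eqToHom (functor_map_eq U W.unop).symm).op s)
    have ht' : ((restrPushAdj U).unit.app F).hom.app W t = s := by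
      let e := functor_map_eq U W.unop
      have h1 : ((restrPushAdj U).unit.app F).hom.app W =
          F.obj.map (homOfLE (inf_le_left : W.unop ⊓ U ≤ W.unop)).op ≫ F.obj.map (eqToHom e).op := by
        rw [← F.obj.map_comp]
        rfl
      rw [h1]
      change F.obj.map (eqToHom e).op (F.obj.map _ t) = s
      rw [ht]
      change (F.obj.map (eqToHom e.symm).op ≫ F.obj.map (eqToHom e).op) s = s
      rw [← F.obj.map_comp, ← op_comp, eqToHom_trans, eqToHom_refl, op_id, F.obj.map_id]
      rfl
    have h2 := ConcreteCategory.congr_hom (congrArg (fun z => z.hom.app W) hg) t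
    change g.hom.app W (((restrPushAdj U).unit.app F).hom.app W t) = g'.hom.app W (((restrPushAdj U).unit.app F).hom.app W t) at h2
    rw [ht'] at h2
    exact h2
  exact epi_comp _ _

/-- Monicity of the unit is injectivity of the restrictions. -/
theorem mono_unit_iff (F : CohTop.Ab X) :
    Mono ((outsideUnit U).app F) ↔
      ∀ V : Opens X, Function.Injective (F.obj.map (homOfLE (inf_le_left : V ⊓ U ≤ V)).op) := by
  rw [unit_app_eq]
  have h1 : Mono ((restrPushAdj U).unit.app F ≫ (CohTop.push (CohCx.incl U)).map ((restrPullIso U).hom.app F)) ↔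
      Mono ((restrPushAdj U).unit.app F) :=
    ⟨fun _ => mono_of_mono _ ((CohTop.push (CohCx.incl U)).map ((restrPullIso U).hom.app F)), fun _ => mono_comp _ _⟩
  rw [h1]
  have h2 : Mono ((restrPushAdj U).unit.app F) ↔
      ∀ V : (Opens X)ᵒᵖ, Mono (((restrPushAdj U).unit.app F).hom.app V) := by
    refine ⟨fun _ V => ?_, fun h => ?_⟩
    · haveI : Mono ((restrPushAdj U).unit.app F).hom :=
        inferInstanceAs (Mono ((sheafToPresheaf _ _).map ((restrPushAdj U).unit.app F)))
      infer_instance
    · haveI : Mono ((sheafToPresheaf _ _).map ((restrPushAdj U).unit.app F)) := by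
        exact @NatTrans.mono_of_mono_app _ _ _ _ _ _ ((sheafToPresheaf _ _).map ((restrPushAdj U).unit.app F)) h
      exact (sheafToPresheaf _ _).mono_of_mono_map inferInstance
  rw [h2]
  have h3 : ∀ V : Opens X, ((restrPushAdj U).unit.app F).hom.app (op V) =
      F.obj.map (homOfLE (inf_le_left : V ⊓ U ≤ V)).op ≫ F.obj.map (eqToHom (functor_map_eq U V)).op := fun V => by
    rw [← F.obj.map_comp]
    rfl
  refine ⟨fun h V => ?_, fun h V => ?_⟩
  · have := (AddCommGrpCat.mono_iff_injective _).mp (h (op V))
    rw [h3] at this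
    exact Function.Injective.of_comp (f := F.obj.map (eqToHom (functor_map_eq U V)).op) this
  · rw [AddCommGrpCat.mono_iff_injective, show V = op V.unop from rfl, h3]
    exact ((AddCommGrpCat.mono_iff_injective (F.obj.map (eqToHom (functor_map_eq U V.unop)).op)).mp inferInstance).comp
      (h V.unop)

/-- Restrictions of sections of an injective sheaf are surjective. -/
theorem surjective_res_injective (I : CohTop.Ab X) [Injective I] {V W : Opens X} (h : W ≤ V) :
    Function.Surjective (I.obj.map (homOfLE h).op) := by
  intro s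
  let J := Opens.grothendieckTopology X
  let φ := Injective.factorThru (CohFree.ofSect J W I s) (CohCx.freeSheafMap J (homOfLE h))
  refine ⟨CohFree.evalGen J V I φ, ?_⟩
  rw [← CohFree.evalGen_freeSheafMap_comp, Injective.comp_factorThru, CohFree.evalGen_ofSect]

/-- The inclusion of sections with supports. -/
def suppι : LocCohZ.sectSuppF U ⟶ 𝟭 (CohTop.Ab X) where
  app F := kernel.ι _
  naturality _ _ φ := kernel.lift_ι _ _ _

theorem suppι_unit (F : CohTop.Ab X) : (suppι U).app F ≫ (outsideUnit U).app F = 0 :=
  kernel.condition _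

theorem shortExact_injective (I : CohTop.Ab X) (hI : Injective I) :
    (ShortComplex.mk ((suppι U).app I) ((outsideUnit U).app I) (suppι_unit U I)).ShortExact where
  exact := ShortComplex.exact_of_f_is_kernel _ (kernelIsKernel ((outsideUnit U).app I))
  mono_f := inferInstanceAs (Mono (kernel.ι ((outsideUnit U).app I)))
  epi_g := epi_unit_of_surjective U fun _ => surjective_res_injective I _

theorem isZero_sectSupp_iff_mono (F : CohTop.Ab X) :
    IsZero ((LocCohZ.sectSuppF U).obj F) ↔ Mono ((outsideUnit U).app F) := by
  refine ⟨fun h => Preadditive.mono_of_isZero_kernel _ h, fun h => ?_⟩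
  exact (isZero_zero _).of_iso (kernel.ofMono ((outsideUnit U).app F))

instance preservesFiniteLimits_sectSupp : PreservesFiniteLimits (LocCohZ.sectSuppF U) := by
  refine (Functor.preservesFiniteLimits_tfae (LocCohZ.sectSuppF U)).out 0 3 |>.mp ?_
  intro S hS
  haveI := hS.mono_f
  haveI : Mono ((LocCohZ.sectSuppF U).map S.f) := by
    haveI : Mono ((LocCohZ.sectSuppF U).map S.f ≫ (suppι U).app S.X₂) := by
      rw [(suppι U).naturality S.f]
      haveI : Mono ((suppι U).app S.X₁) := inferInstanceAs (Mono (kernel.ι ((outsideUnit U).app S.X₁)))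
      exact mono_comp _ _
    exact mono_of_mono _ ((suppι U).app S.X₂)
  haveI : Mono ((outside U).map S.f) := (outside U).map_mono _
  refine ⟨?_, inferInstance⟩
  haveI : Mono (S.map (LocCohZ.sectSuppF U)).f := inferInstanceAs (Mono ((LocCohZ.sectSuppF U).map S.f))
  refine ShortComplex.exact_of_f_is_kernel _ (KernelFork.IsLimit.ofι' _ _ fun {T} z hz => ?_)
  have hz' : (z ≫ (suppι U).app S.X₂) ≫ S.g = 0 := by
    rw [Category.assoc, show (suppι U).app S.X₂ ≫ S.g = (LocCohZ.sectSuppF U).map S.g ≫ (suppι U).app S.X₃ from
      ((suppι U).naturality S.g).symm, ← Category.assoc]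
    exact (congrArg (· ≫ _) hz).trans zero_comp
  obtain ⟨w, hw⟩ := KernelFork.IsLimit.lift' hS.exact.fIsKernel _ hz'
  have hw0 : w ≫ (outsideUnit U).app S.X₁ = 0 := by
    rw [← cancel_mono ((outside U).map S.f), Category.assoc, ← (outsideUnit U).naturality S.f, zero_comp,
      Functor.id_map, ← Category.assoc, show w ≫ S.f = _ from hw, Category.assoc, suppι_unit, comp_zero]
  refine ⟨kernel.lift _ w hw0, ?_⟩
  haveI : Mono ((suppι U).app S.X₂) := inferInstanceAs (Mono (kernel.ι ((outsideUnit U).app S.X₂)))
  rw [← cancel_mono ((suppι U).app S.X₂), Category.assoc]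
  refine Eq.trans ?_ hw
  show kernel.lift _ w hw0 ≫ (LocCohZ.sectSuppF U).map S.f ≫ (suppι U).app S.X₂ = w ≫ S.f
  rw [(suppι U).naturality S.f, ← Category.assoc]
  exact congrArg (· ≫ S.f) (kernel.lift_ι _ w hw0)

theorem isZero_HZsh_zero_iff (F : CohTop.Ab X) :
    IsZero ((LocCohZ.HZsh U 0).obj F) ↔
      ∀ V : Opens X, Function.Injective (F.obj.map (homOfLE (inf_le_left : V ⊓ U ≤ V)).op) := by
  rw [← mono_unit_iff, ← isZero_sectSupp_iff_mono]
  exact ((LocCohZ.sectSuppF U).rightDerivedZeroIsoSelf.app F).isZero_iff

theorem mono_unit_push (G : CohTop.Ab (TopCat.of U)) :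
    Mono ((outsideUnit U).app ((CohTop.push (CohCx.incl U)).obj G)) := by
  haveI : IsSplitMono ((outsideUnit U).app ((CohTop.push (CohCx.incl U)).obj G)) :=
    ⟨⟨{ retraction := (CohTop.push (CohCx.incl U)).map
          ((TopCat.Sheaf.pullbackPushforwardAdjunction AddCommGrpCat.{u} (CohCx.incl U)).counit.app G)
        id := (TopCat.Sheaf.pullbackPushforwardAdjunction AddCommGrpCat.{u} (CohCx.incl U)).right_triangle_components G }⟩⟩
  infer_instance

end Groth.Agent.LocZLib
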