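import Groth.Agent.LocZLib.Basic
import Groth.Agent.SiteBase.ExtAdjoint

/-!
# Excision for cohomology with supports
-/

set_option autoImplicit false
set_option backward.isDefEq.respectTransparency false
set_option linter.style.haveILetI false

universe u

open CategoryTheory CategoryTheory.Limits TopologicalSpace Opposite Abelian CohFree

noncomputable section

namespace Groth.Agent.LocZLib

variable {X : TopCat.{u}}

theorem rres {F : CohTop.Ab X} {P Q R : Opens X} (f : Q ⟶ P) (g : R ⟶ Q) (k : R ⟶ P)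
    (x : F.obj.obj (op P)) : F.obj.map g.op (F.obj.map f.op x) = F.obj.map k.op x := by
  rw [← ConcreteCategory.comp_apply, ← F.obj.map_comp]
  exact congrArg (fun t => F.obj.map t x) (Subsingleton.elim _ _)

theorem rres_self {F : CohTop.Ab X} {P : Opens X} (f : P ⟶ P) (x : F.obj.obj (op P)) :
    F.obj.map f.op x = x := by
  rw [Subsingleton.elim f (𝟙 P), op_id, F.obj.map_id]
  rfl

theorem exists_natural_excision {W V : Opens X} (h : W ≤ V) (i : ℕ) :
    ∃ e : ∀ F : CohTop.Ab X,
        LocCohZ.HZ F i h ≃+ LocCohZ.HZc (CohTop.restr F V) i ((Opens.map (CohCx.incl V)).obj W),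
      ∀ (F G : CohTop.Ab X) (φ : F ⟶ G) (x : LocCohZ.HZ F i h),
        e G (LocCohZ.map φ i h x) =
          LocCohZ.map ((CohTop.restrFunctor V).map φ) i
            (le_top : (Opens.map (CohCx.incl V)).obj W ≤ ⊤) (e F x) := by
  let J := Opens.grothendieckTopology X
  let JV := Opens.grothendieckTopology (TopCat.of V)
  let W' : Opens (TopCat.of V) := (Opens.map (CohCx.incl V)).obj W
  let im := V.isOpenEmbedding.isOpenMap.functor
  let R := CohTop.restrFunctor V
  haveI : PreservesFiniteLimits R :=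
    haveI : PreservesLimitsOfSize.{0, 0} R :=
      (extendOpenAdj (g := CohCx.incl V) V.isOpenEmbedding).rightAdjoint_preservesLimits
    inferInstance
  haveI : PreservesFiniteColimits R :=
    haveI : PreservesColimitsOfSize.{0, 0} R := (restrPushAdj V).leftAdjoint_preservesColimits
    inferInstance
  have e1 : im.obj ⊤ = V := Opens.isOpenEmbedding_obj_top V
  have e2 : im.obj W' = W := (functor_map_eq V W).trans (inf_eq_left.2 h)
  let ι := CohCx.freeSheafMap J (homOfLE h)
  let ι' := CohCx.freeSheafMap JV (homOfLE (le_top : W' ≤ ⊤))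
  let s : (R.obj (LocCohZ.zq h)).obj.obj (op ⊤) :=
    (LocCohZ.zq h).obj.map (eqToHom e1).op (evalGen J V _ (cokernel.π ι))
  let η0 : CohCx.freeSheaf JV ⊤ ⟶ R.obj (LocCohZ.zq h) := ofSect JV ⊤ _ s
  have hsec : ∀ (F : CohTop.Ab X) (φ : LocCohZ.zq h ⟶ F),
      evalGen JV ⊤ (R.obj F) (η0 ≫ R.map φ) = F.obj.map (eqToHom e1).op (evalGen J V F (cokernel.π ι ≫ φ)) := by
    intro F φ
    refine (congrArg (φ.hom.app (op (im.obj ⊤))) (evalGen_ofSect JV ⊤ _ s)).trans ?_
    exact ConcreteCategory.congr_hom (φ.hom.naturality (eqToHom e1).op) _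
  have hW : ∀ (F : CohTop.Ab X) (t : F.obj.obj (op (im.obj ⊤))),
      (R.obj F).obj.map (homOfLE (le_top : W' ≤ ⊤)).op t =
        F.obj.map (eqToHom e2).op (F.obj.map (homOfLE h).op (F.obj.map (eqToHom e1.symm).op t)) := fun F t => by
    rw [rres (F := F) _ _ (homOfLE (h.trans e1.ge)), rres (F := F) _ _ (homOfLE (e2.le.trans (h.trans e1.ge)))]
    exact congrArg (fun g => F.obj.map g t) (Subsingleton.elim _ _)
  have hη : ι' ≫ η0 = 0 := by
    refine (homEquivSect JV W' _).injective ?_
    rw [map_zero, homEquivSect_apply, evalGen_freeSheafMap_comp, evalGen_ofSect, hW, rres (F := LocCohZ.zq h) _ _ (𝟙 V),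
      rres_self, ← evalGen_freeSheafMap_comp J (homOfLE h), cokernel.condition, map_zero, map_zero]
  let η : LocCohZ.zq (le_top : W' ≤ ⊤) ⟶ R.obj (LocCohZ.zq h) := cokernel.desc ι' η0 hη
  have hbij : ∀ F : CohTop.Ab X, Function.Bijective fun φ : LocCohZ.zq h ⟶ F => η ≫ R.map φ := by
    refine fun F => ⟨fun φ ψ e => ?_, fun ψ => ?_⟩
    · apply coequalizer.hom_ext
      apply (homEquivSect J V F).injective
      have h1 := congrArg (fun t => evalGen JV ⊤ (R.obj F) (cokernel.π ι' ≫ t)) e
      simp only [η, cokernel.π_desc_assoc, hsec] at h1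
      have h2 := congrArg (F.obj.map (eqToHom e1.symm).op) h1
      rw [rres (F := F) _ _ (𝟙 V), rres (F := F) _ _ (𝟙 V), rres_self, rres_self] at h2
      exact h2
    · let t := evalGen JV ⊤ (R.obj F) (cokernel.π ι' ≫ ψ)
      have ht : (R.obj F).obj.map (homOfLE (le_top : W' ≤ ⊤)).op t = 0 := by
        rw [← evalGen_freeSheafMap_comp, cokernel.condition_assoc, zero_comp, map_zero]
      have ht0 : F.obj.map (homOfLE h).op (F.obj.map (eqToHom e1.symm).op t) = 0 := by
        have h3 := congrArg (F.obj.map (eqToHom e2.symm).op) ((hW F t).symm.trans ht)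
        rw [map_zero, rres (F := F) _ _ (𝟙 W), rres_self] at h3
        exact h3
      have hd : ι ≫ ofSect J V F (F.obj.map (eqToHom e1.symm).op t) = 0 := by
        refine (homEquivSect J W F).injective ?_
        rw [map_zero, homEquivSect_apply, evalGen_freeSheafMap_comp, evalGen_ofSect]
        exact ht0
      refine ⟨cokernel.desc ι _ hd, ?_⟩
      apply coequalizer.hom_ext
      apply (homEquivSect JV ⊤ (R.obj F)).injective
      show evalGen JV ⊤ (R.obj F) (cokernel.π ι' ≫ cokernel.desc ι' η0 hη ≫ R.map _) = t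
      rw [cokernel.π_desc_assoc, hsec]
      refine (congrArg (fun z => F.obj.map (eqToHom e1).op (evalGen J V F z)) (cokernel.π_desc ι _ hd)).trans ?_
      refine (congrArg (F.obj.map (eqToHom e1).op) (evalGen_ofSect J V F _)).trans ?_
      exact (rres (F := F) _ _ (𝟙 (im.obj ⊤)) t).trans (rres_self (F := F) _ _)
  have hvan : ∀ (I : CohTop.Ab X) [Injective I] (n : ℕ),
      Subsingleton (Ext.{u} (LocCohZ.zq (le_top : W' ≤ ⊤)) (R.obj I) (n + 1)) := fun I _ n => by
    haveI : Injective (R.obj I) := injective_restr V I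
    exact Ext.subsingleton_of_injective _ _ n
  refine ⟨fun F => SiteBase.extUnitEquiv (G := R) η hbij hvan F i, fun F G φ x => ?_⟩
  show SiteBase.extUnitHom η G i (x.comp (Ext.mk₀ φ) (add_zero i)) =
    (SiteBase.extUnitHom η F i x).comp (Ext.mk₀ (R.map φ)) (add_zero i)
  rw [SiteBase.extUnitHom_comp, Ext.mapExactFunctor_mk₀]

end Groth.Agent.LocZLib
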