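import Groth.Agent.KoszulCech.SpecSupp
import Groth.Agent.LocZLib.Excision
import Groth.Agent.GorLib.DepthVanish
import Groth.Agent.LocCohLib.LocalCriterion
import Groth.Agent.LocCohLib.FaltingsEasy
import Groth.Agent.GenFree.Scheme
import Groth.Agent.QCohLib.Coherent
import Groth.Agent.Depth.FlatLocal
import Groth.Agent.FibreDepth.AbsDepth

/-!
# Depth and local cohomology sheaves on locally Noetherian schemes
-/

set_option autoImplicit false
set_option linter.style.haveILetI false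
set_option backward.isDefEq.respectTransparency false

universe u

open CategoryTheory CategoryTheory.Limits AlgebraicGeometry TopologicalSpace Opposite Abelian
open scoped TensorProduct

noncomputable section

namespace Groth.Agent.LocZLib

/-- Vanishing of local cohomology below `n` is depth at the primes of the zero locus. -/
theorem forall_subsingleton_H_iff {A : Type u} [CommRing A] [IsNoetherianRing A] (I : Ideal A) (M : Type u)
    [AddCommGroup M] [Module A M] [Module.Finite A M] (n : ℕ) :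
    (∀ i, i < n → Subsingleton (LocCoh.H I i M)) ↔
      ∀ p : PrimeSpectrum A, I ≤ p.asIdeal →
        (n : ℕ∞) ≤ LocCoh.depth (Localization.AtPrime p.asIdeal) (LocalizedModule p.asIdeal.primeCompl M) := by
  constructor
  · intro h p hp
    let B := Localization.AtPrime p.asIdeal
    let Mp := LocalizedModule p.asIdeal.primeCompl M
    rcases subsingleton_or_nontrivial Mp with hM | hM
    · rw [CAlgBasics.depth_eq_top]
      exact le_top
    · have hle : LocCoh.idealDepth (I.map (algebraMap A B)) Mp ≤ LocCoh.depth B Mp := by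
        have hm : I.map (algebraMap A B) ≤ IsLocalRing.maximalIdeal B := by
          rw [← Localization.AtPrime.map_eq_maximalIdeal]
          exact Ideal.map_mono hp
        have h1 : IsLocalRing.maximalIdeal B • (⊤ : Submodule B Mp) ≠ ⊤ := CAlgBasics.maximalIdeal_smul_top_ne_top
        have h2 : I.map (algebraMap A B) • (⊤ : Submodule B Mp) ≠ ⊤ := fun e =>
          h1 (top_le_iff.1 (e.ge.trans (Submodule.smul_mono_left hm)))
        unfold LocCoh.depth LocCoh.idealDepth
        rw [if_neg h1, if_neg h2]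
        refine iSup_le fun rs => iSup_le fun hrs => ?_
        exact le_iSup_of_le rs (le_iSup_of_le ⟨hrs.1, fun r hr => hm (hrs.2 r hr)⟩ le_rfl)
      refine le_trans ?_ hle
      by_contra hc
      rw [not_le] at hc
      obtain ⟨t, ht⟩ := ENat.ne_top_iff_exists.1 (ne_top_of_lt hc)
      rw [← ht] at hc
      obtain ⟨z, hz⟩ := LocCohLib.exists_nonzero_at_depth I p.asIdeal hp M hM t ht.symm
      haveI := h t (by exact_mod_cast hc)
      exact hz 1 (fun h1 => p.2.ne_top ((Ideal.eq_top_iff_one _).2 h1)) (Subsingleton.elim _ _)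
  · intro h i hi
    refine LocCohLib.subsingleton_of_forall_local M i I fun p hp => ?_
    exact (GorLib.natCast_le_depth_iff_subsingleton_H _ n).1 (h p hp) i hi

/-- The connecting map in degree zero presents the first cohomology with supports. -/
theorem nonempty_HZc_one {Z : TopCat.{u}} (F : CohTop.Ab Z) (V : Opens Z)
    (h0 : Subsingleton (CohTop.HU F 1 (⊤ : Opens Z))) :
    Nonempty ((F.obj.obj (op V) ⧸ (F.obj.map (homOfLE (le_top : V ≤ ⊤)).op).hom.range) ≃+
      LocCohZ.HZc F 1 V) := by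
  let J := Opens.grothendieckTopology Z
  let e : ∀ W : Opens Z, CohTop.HU F 0 W ≃+ F.obj.obj (op W) := fun W =>
    Ext.addEquiv₀.trans (CohFree.homEquivSect J W F)
  let d : F.obj.obj (op V) →+ LocCohZ.HZc F 1 V :=
    (LocCohZ.delta F 0 (le_top : V ≤ ⊤)).comp (e V).symm.toAddMonoidHom
  have hres : ∀ x, e V (CohTop.res F 0 (le_top : V ≤ ⊤) x) =
      F.obj.map (homOfLE (le_top : V ≤ ⊤)).op (e ⊤ x) := by
    intro x
    obtain ⟨φ, rfl⟩ := Ext.addEquiv₀.symm.surjective x
    rw [res_eq, Ext.addEquiv₀_symm_apply, Ext.mk₀_comp_mk₀]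
    simp only [e, AddEquiv.trans_apply, ← Ext.addEquiv₀_symm_apply, AddEquiv.apply_symm_apply]
    refine (congrArg (CohFree.homEquivSect J V F) (Ext.addEquiv₀.apply_symm_apply _)).trans
      ((CohFree.evalGen_freeSheafMap_comp J (homOfLE (le_top : V ≤ ⊤)) F φ).trans ?_)
    exact congrArg (fun z => F.obj.map (homOfLE (le_top : V ≤ ⊤)).op (CohFree.homEquivSect J ⊤ F z))
      (Ext.addEquiv₀.apply_symm_apply φ).symm
  have hd : Function.Surjective d := fun z => by
    obtain ⟨y, hy⟩ := Ext.contravariant_sequence_exact₃ (LocCohZ.zqSeq_shortExact (le_top : V ≤ ⊤))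
      F z (h0.elim _ _) (n₀ := 0) (by omega)
    refine ⟨e V y, ?_⟩
    show LocCohZ.delta F 0 (le_top : V ≤ ⊤) ((e V).symm (e V y)) = z
    rw [AddEquiv.symm_apply_apply]
    exact hy
  refine ⟨(QuotientAddGroup.quotientAddEquivOfEq ?_).trans (QuotientAddGroup.quotientKerEquivOfSurjective d hd)⟩
  ext s
  rw [AddMonoidHom.mem_ker, AddMonoidHom.mem_range]
  constructor
  · rintro ⟨t, rfl⟩
    show LocCohZ.delta F 0 (le_top : V ≤ ⊤) ((e V).symm (F.obj.map _ t)) = 0
    rw [← (e ⊤).apply_symm_apply t, ← hres, AddEquiv.symm_apply_apply]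
    exact (Ext.comp_assoc _ _ _ (by omega) (by omega) (by omega)).symm.trans
      ((congrArg (fun w => Ext.comp w ((e ⊤).symm t) (by omega : 1 + 0 = 0 + 1))
        (LocCohZ.zqSeq_shortExact (le_top : V ≤ ⊤)).extClass_comp).trans (by simp))
  · intro hs
    obtain ⟨x, hx⟩ := Ext.contravariant_sequence_exact₁ (LocCohZ.zqSeq_shortExact (le_top : V ≤ ⊤))
      F ((e V).symm s) (n₁ := 1) (by omega) hs
    refine ⟨e ⊤ x, ?_⟩
    exact (hres x).symm.trans ((congrArg (e V) hx).trans ((e V).apply_symm_apply s))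

/-- The connecting map is bijective between acyclic degrees. -/
theorem nonempty_HZc_succ {Z : TopCat.{u}} (F : CohTop.Ab Z) (V : Opens Z) (q : ℕ)
    (h1 : Subsingleton (CohTop.HU F (q + 1) (⊤ : Opens Z)))
    (h2 : Subsingleton (CohTop.HU F (q + 1 + 1) (⊤ : Opens Z))) :
    Nonempty (CohTop.HU F (q + 1) V ≃+ LocCohZ.HZc F (q + 1 + 1) V) := by
  refine ⟨AddEquiv.ofBijective (LocCohZ.delta F (q + 1) (le_top : V ≤ ⊤))
    ⟨(injective_iff_map_eq_zero _).2 fun y hy => ?_, fun z => ?_⟩⟩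
  · obtain ⟨x, rfl⟩ := Ext.contravariant_sequence_exact₁ (LocCohZ.zqSeq_shortExact (le_top : V ≤ ⊤))
      F y (by omega : 1 + (q + 1) = q + 1 + 1) hy
    have hx : x = 0 := h1.elim _ _
    rw [hx, Ext.comp_zero]
  · obtain ⟨y, hy⟩ := Ext.contravariant_sequence_exact₃ (LocCohZ.zqSeq_shortExact (le_top : V ≤ ⊤))
      F z (h2.elim _ _) (by omega : 1 + (q + 1) = q + 1 + 1)
    exact ⟨y, hy⟩

theorem nonempty_HZc_zero {Z : TopCat.{u}} (F : CohTop.Ab Z) (V : Opens Z) :
    Nonempty ((F.obj.map (homOfLE (le_top : V ≤ ⊤)).op).hom.ker ≃+ LocCohZ.HZc F 0 V) :=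
  ⟨AddEquiv.trans
    { toFun := fun s => ⟨s.1, s.2⟩
      invFun := fun s => ⟨s.1, s.2⟩
      left_inv := fun _ => rfl
      right_inv := fun _ => rfl
      map_add' := fun _ _ => rfl } (LocCohZ.sect0Equiv F (le_top : V ≤ ⊤)).symm⟩

theorem subsingleton_HU_top {Y : Scheme.{u}} [IsAffine Y] (G : Y.Modules) [Coh.IsQCoh G] (n : ℕ) :
    Subsingleton (CohTop.HU (X := Y.carrier) (Coh.toAb G) (n + 1) (⊤ : Y.Opens)) :=
  CohBase.affine_vanishing G (isAffineOpen_top Y) n

/-- Cohomology with supports on an affine scheme as a limit of Koszul cohomology. -/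
theorem nonempty_koszulHLim_HZc {Y : Scheme.{u}} [IsAffine Y] (G : Y.Modules) [Coh.IsQCoh G]
    (fs : List Γ(Y, ⊤)) (i : ℕ) :
    Nonempty (CohIII.koszulHLim fs (ModuleCat.of Γ(Y, ⊤) (G.val.obj (op ⊤))) i ≃+
      LocCohZ.HZc (X := Y.carrier) (Coh.toAb G) i (⨆ j : Fin fs.length, Y.basicOpen (fs.get j))) := by
  obtain ⟨⟨k₀⟩, ⟨k₁⟩⟩ := KoszulCech.sections_koszul G fs
  rcases i with _ | _ | q
  · obtain ⟨e⟩ := nonempty_HZc_zero (Z := Y.carrier) (Coh.toAb G) (⨆ j : Fin fs.length, Y.basicOpen (fs.get j))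
    exact ⟨k₀.symm.trans e⟩
  · obtain ⟨e⟩ := nonempty_HZc_one (Z := Y.carrier) (Coh.toAb G) (⨆ j : Fin fs.length, Y.basicOpen (fs.get j))
      (subsingleton_HU_top G 0)
    exact ⟨k₁.symm.trans e⟩
  · obtain ⟨k⟩ := KoszulCech.cohomology_koszul G fs (fun j => (isAffineOpen_top Y).basicOpen _) (q + 1) (by omega)
    obtain ⟨e₁⟩ := OpenRestrH.nonempty_HHon_equiv Y G (⨆ j : Fin fs.length, Y.basicOpen (fs.get j)) (q + 1)
    obtain ⟨e⟩ := nonempty_HZc_succ (Z := Y.carrier) (Coh.toAb G) (⨆ j : Fin fs.length, Y.basicOpen (fs.get j)) q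
      (subsingleton_HU_top G q) (subsingleton_HU_top G (q + 1))
    exact ⟨(k.symm.trans e₁.symm).trans e⟩

variable {X : Scheme.{u}} [IsLocallyNoetherian X]

/-- On an affine open, cohomology with supports is local cohomology with respect to an ideal of the complement. -/
theorem exists_ideal_subsingleton_HZ_iff (U : X.Opens) (M : X.Modules) (hM : Coh.IsCoh M) {V : X.Opens}
    (hV : IsAffineOpen V) (hW : IsAffineOpen (V.ι ''ᵁ ⊤)) :
    ∃ I : Ideal Γ(X, V.ι ''ᵁ ⊤),
      (∀ i, Subsingleton (LocCohZ.HZ (X := X.carrier) (Coh.toAb M) i (inf_le_left : V ⊓ U ≤ V)) ↔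
        Subsingleton (LocCoh.H I i Γ(M, V.ι ''ᵁ ⊤))) ∧
      ∀ (x : X) (hxW : x ∈ V.ι ''ᵁ ⊤), x ∉ (U : Set X) ↔ I ≤ (hW.primeIdealOf ⟨x, hxW⟩).asIdeal := by
  haveI := hM.1
  haveI : IsAffine V.toScheme := hV
  let W : X.Opens := V.ι ''ᵁ ⊤
  have hWV : W = V := V.ι_image_top
  let A := Γ(X, W)
  haveI : IsNoetherianRing A := IsLocallyNoetherian.component_noetherian ⟨W, hW⟩
  haveI : Module.Finite A Γ(M, W) := QCohLib.finite_sections_of_isCoh hM hW
  haveI : IsNoetherianRing Γ(V.toScheme, ⊤) := inferInstanceAs (IsNoetherianRing A)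
  haveI : IsLocallyNoetherian V.toScheme := isLocallyNoetherian_of_isOpenImmersion V.ι
  haveI : IsNoetherian V.toScheme := {}
  let U' : V.toScheme.Opens := (Opens.map (CohCx.incl (X := X.carrier) V)).obj (V ⊓ U)
  obtain ⟨fs, hfs⟩ : ∃ fs : List Γ(V.toScheme, ⊤),
      U' = ⨆ j : Fin fs.length, V.toScheme.basicOpen (fs.get j) := by
    obtain ⟨s, hs, hU⟩ := (isCompact_open_iff_eq_finite_iUnion_of_isTopologicalBasis
      (fun f : Γ(V.toScheme, ⊤) => (V.toScheme.basicOpen f : Set V.toScheme))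
      (by
        have h : IsTopologicalBasis (SetLike.coe '' Set.range (V.toScheme.basicOpen : Γ(V.toScheme, ⊤) → V.toScheme.Opens)) :=
          isBasis_basicOpen V.toScheme
        rw [← Set.range_comp] at h
        exact h)
      (fun f => ((isAffineOpen_top V.toScheme).basicOpen f).isCompact) (U' : Set V.toScheme)).1
      ⟨NoetherianSpace.isCompact _, U'.2⟩
    refine ⟨hs.toFinset.toList, Opens.ext ?_⟩
    rw [hU, Opens.coe_iSup]
    ext x
    simp only [Set.mem_iUnion]
    constructor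
    · rintro ⟨f, hf, hx⟩
      obtain ⟨j, hj⟩ := List.mem_iff_get.1 (Finset.mem_toList.2 (hs.mem_toFinset.2 hf))
      exact ⟨j, by rw [hj]; exact hx⟩
    · rintro ⟨j, hx⟩
      exact ⟨_, hs.mem_toFinset.1 (Finset.mem_toList.1 (List.get_mem _ j)), hx⟩
  let fsA : List A := fs
  let I : Ideal A := Ideal.span {a | a ∈ fsA}
  -- identify the groups
  haveI : Coh.IsQCoh (M.restrict V.ι) := inferInstance
  have key : ∀ i, Subsingleton (LocCohZ.HZ (X := X.carrier) (Coh.toAb M) i (inf_le_left : V ⊓ U ≤ V)) ↔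
      Subsingleton (LocCoh.H I i Γ(M, W)) := by
    intro i
    obtain ⟨e, -⟩ := exists_natural_excision (X := X.carrier) (inf_le_left : V ⊓ U ≤ V) i
    obtain ⟨k⟩ := nonempty_koszulHLim_HZc (M.restrict V.ι) fs i
    letI : Module Γ(V.toScheme, ⊤) Γ(M, W) :=
      Module.compHom _ (show Γ(V.toScheme, ⊤) →+* Γ(X, W) from RingHom.id Γ(X, W))
    let eM : ((M.restrict V.ι).val.obj (op ⊤) : Type u) ≃ₗ[Γ(V.toScheme, ⊤)] Γ(M, W) :=
      { toFun := fun s => s
        invFun := fun s => s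
        left_inv := fun _ => rfl
        right_inv := fun _ => rfl
        map_add' := fun _ _ => rfl
        map_smul' := fun a s => by
          show (V.ι.appIso ⊤).inv a • (show Γ(M, W) from s) = a • (show Γ(M, W) from s)
          rw [Scheme.Opens.ι_appIso]
          rfl }
    obtain ⟨k'⟩ := KoszulCech.nonempty_koszulHLim_St_equiv (ModuleCat.of Γ(V.toScheme, ⊤) ((M.restrict V.ι).val.obj (op ⊤))) fs i
    obtain ⟨k''⟩ := KoszulCech.nonempty_St_equiv fs i (ModuleCat.of Γ(V.toScheme, ⊤) ((M.restrict V.ι).val.obj (op ⊤)))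
      ((i : ℤ) - fs.length) (by omega)
    let k3 := ((localCohomology (Ideal.span {a | a ∈ fs}) i).mapIso eM.toModuleIso).toLinearEquiv
    have h1 : Subsingleton (LocCohZ.HZ (X := X.carrier) (Coh.toAb M) i (inf_le_left : V ⊓ U ≤ V)) ↔
        Subsingleton (LocCohZ.HZc (X := V.toScheme.carrier) (Coh.toAb (M.restrict V.ι)) i
          (⨆ j : Fin fs.length, V.toScheme.basicOpen (fs.get j))) := by
      rw [← hfs]
      exact (e (Coh.toAb M)).toEquiv.subsingleton_congr
    rw [h1, ← k.toEquiv.subsingleton_congr, k'.toEquiv.subsingleton_congr, k''.toEquiv.subsingleton_congr,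
      k3.toEquiv.subsingleton_congr]
    exact Iff.rfl
  have hmem : ∀ (x : X) (hxW : x ∈ W), x ∉ (U : Set X) ↔ I ≤ (hW.primeIdealOf ⟨x, hxW⟩).asIdeal := by
    intro x hxW
    have hxV : x ∈ V := hWV.le hxW
    letI : Algebra A (X.presheaf.stalk x) := TopCat.Presheaf.algebra_section_stalk X.presheaf ⟨x, hxW⟩
    haveI : IsLocalization.AtPrime (X.presheaf.stalk x) (hW.primeIdealOf ⟨x, hxW⟩).asIdeal :=
      hW.isLocalization_stalk ⟨x, hxW⟩
    have hb : ∀ f : A, f ∉ (hW.primeIdealOf ⟨x, hxW⟩).asIdeal ↔ x ∈ X.basicOpen f := fun f => by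
      rw [Scheme.mem_basicOpen _ _ _ hxW]
      exact (IsLocalization.AtPrime.isUnit_to_map_iff (X.presheaf.stalk x) _ f).symm
    have hx : x ∈ (U : Set X) ↔ ∃ j : Fin fs.length, x ∈ X.basicOpen (fsA.get j) := by
      have hU' : (⟨x, hxV⟩ : V.toScheme) ∈ U' ↔ x ∈ (U : Set X) := ⟨fun h => h.2, fun h => ⟨hxV, h⟩⟩
      rw [← hU', hfs, Opens.mem_iSup]
      refine exists_congr fun j => ?_
      refine Iff.trans ?_ (Iff.of_eq (congrArg (x ∈ ·) (V.ι_image_basicOpen (fs.get j))))
      constructor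
      · intro h
        exact ⟨_, h, rfl⟩
      · rintro ⟨y, hy, hyx⟩
        obtain rfl : y = (⟨x, hxV⟩ : V.toScheme) := V.ι.isOpenEmbedding.injective hyx
        exact hy
    rw [Ideal.span_le, hx, not_exists]
    constructor
    · intro h a ha
      obtain ⟨j, rfl⟩ := List.mem_iff_get.1 ha
      exact not_not.1 fun hn => h j ((hb _).1 hn)
    · intro h j hj
      exact (hb _).2 hj (h (List.get_mem _ _))
  exact ⟨I, key, hmem⟩

/-- On an affine open, vanishing of cohomology with supports is depth along the complement. -/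
theorem forall_subsingleton_HZ_iff (U : X.Opens) (M : X.Modules) (hM : Coh.IsCoh M) {V : X.Opens}
    (hV : IsAffineOpen V) (n : ℕ) :
    (∀ i, i < n → Subsingleton (LocCohZ.HZ (X := X.carrier) (Coh.toAb M) i (inf_le_left : V ⊓ U ≤ V))) ↔
      ∀ x : X, x ∈ V → x ∉ (U : Set X) →
        (n : ℕ∞) ≤ LocCoh.depth (X.presheaf.stalk x) (M.presheaf.stalk x) := by
  let W : X.Opens := V.ι ''ᵁ ⊤
  have hWV : W = V := V.ι_image_top
  have hW : IsAffineOpen W := by rw [hWV]; exact hV
  let A := Γ(X, W)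
  haveI : IsNoetherianRing A := IsLocallyNoetherian.component_noetherian ⟨W, hW⟩
  haveI := hM.1
  haveI : Module.Finite A Γ(M, W) := QCohLib.finite_sections_of_isCoh hM hW
  obtain ⟨I, key, hmem⟩ := exists_ideal_subsingleton_HZ_iff U M hM hV hW
  have hdepth : ∀ (x : X) (hxW : x ∈ W), LocCoh.depth (X.presheaf.stalk x) (M.presheaf.stalk x) =
      LocCoh.depth (Localization.AtPrime (hW.primeIdealOf ⟨x, hxW⟩).asIdeal)
        (LocalizedModule (hW.primeIdealOf ⟨x, hxW⟩).asIdeal.primeCompl Γ(M, W)) := by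
    intro x hxW
    let O := X.presheaf.stalk x
    let q := hW.primeIdealOf ⟨x, hxW⟩
    letI : Algebra A O := TopCat.Presheaf.algebra_section_stalk X.presheaf ⟨x, hxW⟩
    letI := Module.compHom (M.presheaf.stalk x) (X.presheaf.germ W x hxW).hom
    haveI : IsScalarTower A O (M.presheaf.stalk x) := .of_algebraMap_smul fun _ _ => rfl
    obtain ⟨g, hg⟩ := GenFree.exists_isLocalizedModule_germ M hW x hxW
    haveI := hg
    haveI : IsLocalization.AtPrime O q.asIdeal := hW.isLocalization_stalk ⟨x, hxW⟩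
    rw [← (FibreDepth.tens_of_chart (O := O) (N := M.presheaf.stalk x) q.asIdeal g).1]
    exact Depth.depth_congr (LocalizedModule.equivTensorProduct q.asIdeal.primeCompl Γ(M, W)).symm
  rw [forall_congr' fun i => imp_congr_right fun _ => key i, forall_subsingleton_H_iff I Γ(M, W) n]
  constructor
  · intro h x hxV hxU
    have hxW : x ∈ W := hWV.ge hxV
    rw [hdepth x hxW]
    exact h _ ((hmem x hxW).1 hxU)
  · intro h p hp
    have hxW : hW.fromSpec p ∈ W := by
      rw [← SetLike.mem_coe, ← hW.range_fromSpec]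
      exact ⟨p, rfl⟩
    have hp' : hW.primeIdealOf ⟨hW.fromSpec p, hxW⟩ = p :=
      hW.fromSpec.isOpenEmbedding.injective (hW.fromSpec_primeIdealOf _)
    have h2 := h (hW.fromSpec p) (hWV.le hxW) ((hmem _ hxW).2 (by rw [hp']; exact hp))
    rw [hdepth _ hxW, hp'] at h2
    exact h2

omit [IsLocallyNoetherian X] in
/-- Vanishing of the sheaves from vanishing of the groups on a basis. -/
theorem isZero_HZsh_lt_of_affine {U : X.Opens} : ∀ (n : ℕ) (F : CohTop.Ab X.carrier),
    (∀ V : X.Opens, IsAffineOpen V → ∀ i, i < n → Subsingleton (LocCohZ.HZ F i (inf_le_left : V ⊓ U ≤ V))) →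
    ∀ i, i < n → IsZero ((LocCohZ.HZsh (X := X.carrier) U i).obj F)
  | 0, F, _, i, hi => absurd hi (Nat.not_lt_zero i)
  | n + 1, F, h, i, hi => by
    have hinj : ∀ V : X.Opens, Function.Injective (F.obj.map (homOfLE (inf_le_left : V ⊓ U ≤ V)).op) := by
      intro V s t hst
      have hcov : ∀ x : X, x ∈ V → ∃ B : X.Opens, IsAffineOpen B ∧ x ∈ B ∧ B ≤ V := fun x hx => by
        obtain ⟨_, ⟨B, hB, rfl⟩, hxB, hBV⟩ := X.isBasis_affineOpens.exists_subset_of_mem_open hx V.2
        exact ⟨B, hB, hxB, hBV⟩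
      choose B hB hxB hBV using hcov
      refine TopCat.Sheaf.eq_of_locally_eq' F (fun x : V => B x.1 x.2) V (fun x => homOfLE (hBV x.1 x.2))
        (fun x hx => Opens.mem_iSup.2 ⟨⟨x, hx⟩, hxB x hx⟩) s t fun x => ?_
      apply (subsingleton_HZ_zero_iff F _).1 (h (B x.1 x.2) (hB x.1 x.2) 0 n.succ_pos)
      have hst' := congrArg (F.obj.map (homOfLE (inf_le_inf_right U (hBV x.1 x.2))).op) hst
      rw [← ConcreteCategory.comp_apply, ← ConcreteCategory.comp_apply, ← F.obj.map_comp] at hst' ⊢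
      exact hst'
    have h0 : IsZero ((LocCohZ.HZsh (X := X.carrier) U 0).obj F) := (isZero_HZsh_zero_iff U F).mpr hinj
    cases i with
    | zero => exact h0
    | succ j =>
      obtain ⟨T, hT, rfl, hI, hU⟩ := exists_embedding U F ((mono_unit_iff U F).mpr hinj)
      haveI := hI
      rw [isZero_HZsh_shift U hT hU]
      exact isZero_HZsh_lt_of_affine n T.X₃
        (fun V hV k hk => (subsingleton_HZ_shift U hT hU V k).mp (h V hV (k + 1) (by omega))) j (by omega)

/-- Depth along the complement is vanishing of the local cohomology sheaves. -/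
theorem isZero_HZsh_lt_iff_depth (U : X.Opens) (M : X.Modules) (hM : Coh.IsCoh M) (n : ℕ) :
    (∀ i : ℕ, i < n → IsZero ((LocCohZ.HZsh (X := X.carrier) U i).obj (Coh.toAb M))) ↔
      ∀ x : X, x ∉ (U : Set X) → (n : ℕ∞) ≤ LocCoh.depth (X.presheaf.stalk x) (M.presheaf.stalk x) := by
  constructor
  · intro h x hx
    obtain ⟨_, ⟨V, hV, rfl⟩, hxV, -⟩ := X.isBasis_affineOpens.exists_subset_of_mem_open (Set.mem_univ x) isOpen_univ
    exact (forall_subsingleton_HZ_iff U M hM hV n).1
      (fun i hi => (isZero_HZsh_lt_iff U n (Coh.toAb M)).1 h V i hi) x hxV hx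
  · intro h
    exact isZero_HZsh_lt_of_affine n (Coh.toAb M) fun V hV =>
      (forall_subsingleton_HZ_iff U M hM hV n).2 fun x _ hx => h x hx

end Groth.Agent.LocZLib
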