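import Groth.Agent.LocZLib.Flasque
import Groth.Agent.SpSeqLib.Grothendieck
import Groth.Agent.SpSeqLib.ExtDerived

/-! # Spectral sequences of cohomology with supports -/

set_option autoImplicit false
set_option backward.isDefEq.respectTransparency false
set_option linter.style.haveILetI false

universe u

open CategoryTheory CategoryTheory.Limits TopologicalSpace Opposite CategoryTheory.Abelian

noncomputable section

namespace Groth.Agent.LocZLib

variable {X : TopCat.{u}}

/-- Maps out of `ℤ_V/ℤ_W` are the sections over `V` vanishing on `W`. -/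
def homZqEquiv {W V : Opens X} (h : W ≤ V) (G : CohTop.Ab X) : (LocCohZ.zq h ⟶ G) ≃+ LocCohZ.sectZ G h :=
  Ext.addEquiv₀.symm.trans (LocCohZ.sect0Equiv G h)

theorem homZqEquiv_apply {W V : Opens X} (h : W ≤ V) {G : CohTop.Ab X} (φ : LocCohZ.zq h ⟶ G) :
    (homZqEquiv h G φ).1 = CohFree.evalGen (Opens.grothendieckTopology X) V G (cokernel.π _ ≫ φ) := by
  show CohFree.evalGen _ V G (cokernel.π _ ≫ Ext.addEquiv₀ (Ext.addEquiv₀.symm φ)) = _
  rw [AddEquiv.apply_symm_apply]

theorem homZqEquiv_natural {W V : Opens X} (h : W ≤ V) {G G' : CohTop.Ab X} (g : G ⟶ G') (φ : LocCohZ.zq h ⟶ G) :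
    (homZqEquiv h G' (φ ≫ g)).1 = g.hom.app (op V) (homZqEquiv h G φ).1 := by
  rw [homZqEquiv_apply, homZqEquiv_apply, ← Category.assoc]
  rfl

variable {Y : TopCat.{u}} (f : X ⟶ Y) (V : Opens Y)

/-- Sections with supports of a direct image. -/
def pushHomEquiv (F : CohTop.Ab X) :
    (LocCohZ.zq (le_top : V ≤ ⊤) ⟶ (CohTop.push f).obj F) ≃+
      (LocCohZ.zq (le_top : (Opens.map f).obj V ≤ ⊤) ⟶ F) :=
  ((homZqEquiv (le_top : V ≤ ⊤) ((CohTop.push f).obj F)).trans
    ((AddEquiv.refl _ : LocCohZ.sectZ ((CohTop.push f).obj F) (le_top : V ≤ ⊤) ≃+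
      LocCohZ.sectZ F (le_top : (Opens.map f).obj V ≤ ⊤)))).trans
    (homZqEquiv (le_top : (Opens.map f).obj V ≤ ⊤) F).symm

/-- The composite of direct image and sections with supports. -/
def pushHomIso :
    CohTop.push f ⋙ preadditiveCoyoneda.obj (op (LocCohZ.zq (le_top : V ≤ ⊤))) ≅
      preadditiveCoyoneda.obj (op (LocCohZ.zq (le_top : (Opens.map f).obj V ≤ ⊤))) :=
  NatIso.ofComponents (fun F => AddEquiv.toAddCommGrpIso (pushHomEquiv f V F)) fun {F G} g => by
    ext φ
    show pushHomEquiv f V G (φ ≫ (CohTop.push f).map g) = pushHomEquiv f V F φ ≫ g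
    apply (homZqEquiv (le_top : (Opens.map f).obj V ≤ ⊤) G).injective
    apply Subtype.ext
    rw [homZqEquiv_natural]
    show ((homZqEquiv _ G) ((homZqEquiv _ G).symm _)).1 =
      g.hom.app _ ((homZqEquiv _ F) ((homZqEquiv _ F).symm _)).1
    rw [AddEquiv.apply_symm_apply, AddEquiv.apply_symm_apply]
    exact homZqEquiv_natural (le_top : V ≤ ⊤) ((CohTop.push f).map g) φ

variable (U : Opens X)

theorem comp_suppι_mem {F : CohTop.Ab X} (φ : CohCx.freeSheaf (Opens.grothendieckTopology X) ⊤ ⟶ (LocCohZ.sectSuppF U).obj F) :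
    CohCx.freeSheafMap (Opens.grothendieckTopology X) (homOfLE (le_top : U ≤ ⊤)) ≫ φ ≫ (suppι U).app F = 0 := by
  let J := Opens.grothendieckTopology X
  refine (CohFree.ofSect_evalGen J U F _).symm.trans ((congrArg (CohFree.ofSect J U F) ?_).trans
    ((congrArg (CohFree.ofSect J U F) (map_zero (CohFree.evalGen J U F)).symm).trans (CohFree.ofSect_evalGen J U F 0)))
  rw [CohFree.evalGen_freeSheafMap_comp]
  have hs := (mem_range_suppι_iff U F ⊤ _).mp ⟨CohFree.evalGen J ⊤ _ φ, rfl⟩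
  have h2 := congrArg (F.obj.map (homOfLE (le_inf le_top le_rfl : U ≤ ⊤ ⊓ U)).op) hs
  rw [map_zero] at h2
  exact (ConcreteCategory.congr_hom (F.obj.map_comp (homOfLE (inf_le_left : (⊤ : Opens X) ⊓ U ≤ ⊤)).op
    (homOfLE (le_inf le_top le_rfl : U ≤ ⊤ ⊓ U)).op) _).trans h2

theorem lift_mem {F : CohTop.Ab X} (ψ : LocCohZ.zq (le_top : U ≤ ⊤) ⟶ F) :
    (cokernel.π _ ≫ ψ) ≫ (outsideUnit U).app F = 0 := by
  let J := Opens.grothendieckTopology X
  let s := CohFree.evalGen J ⊤ F (cokernel.π _ ≫ ψ)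
  have hs : F.obj.map (homOfLE (inf_le_left : (⊤ : Opens X) ⊓ U ≤ ⊤)).op s = 0 := by
    have h0 : F.obj.map (homOfLE (le_top : U ≤ ⊤)).op s = 0 := by
      rw [← CohFree.evalGen_freeSheafMap_comp, cokernel.condition_assoc, zero_comp, map_zero]
    have h2 := congrArg (F.obj.map (homOfLE (inf_le_right : (⊤ : Opens X) ⊓ U ≤ U)).op) h0
    rw [map_zero] at h2
    exact (ConcreteCategory.congr_hom (F.obj.map_comp (homOfLE (le_top : U ≤ ⊤)).op
      (homOfLE (inf_le_right : (⊤ : Opens X) ⊓ U ≤ U)).op) _).trans h2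
  obtain ⟨t, ht⟩ := (mem_range_suppι_iff U F ⊤ s).mpr hs
  have h1 : CohFree.ofSect J ⊤ _ t ≫ (suppι U).app F = cokernel.π _ ≫ ψ := by
    rw [← CohFree.ofSect_evalGen J ⊤ F (cokernel.π _ ≫ ψ),
      ← CohFree.ofSect_evalGen J ⊤ F (CohFree.ofSect J ⊤ _ t ≫ (suppι U).app F)]
    refine congrArg _ (Eq.trans ?_ ht)
    exact congrArg (((suppι U).app F).hom.app (op ⊤)) (CohFree.evalGen_ofSect J ⊤ _ t)
  rw [← h1, Category.assoc, suppι_unit, comp_zero]

/-- Global sections of the sheaf of sections with supports. -/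
def suppHomEquiv (F : CohTop.Ab X) :
    (CohCx.freeSheaf (Opens.grothendieckTopology X) ⊤ ⟶ (LocCohZ.sectSuppF U).obj F) ≃+
      (LocCohZ.zq (le_top : U ≤ ⊤) ⟶ F) where
  toFun φ := cokernel.desc _ (φ ≫ (suppι U).app F) (comp_suppι_mem U φ)
  invFun ψ := kernel.lift _ (cokernel.π _ ≫ ψ) (lift_mem U ψ)
  left_inv φ := by
    haveI : Mono ((suppι U).app F) := inferInstanceAs (Mono (kernel.ι ((outsideUnit U).app F)))
    rw [← cancel_mono ((suppι U).app F)]
    exact (kernel.lift_ι _ _ _).trans (cokernel.π_desc _ _ _)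
  right_inv ψ := by
    rw [← cancel_epi (cokernel.π _), cokernel.π_desc]
    exact kernel.lift_ι _ _ _
  map_add' φ φ' := by
    rw [← cancel_epi (cokernel.π _), Preadditive.comp_add, cokernel.π_desc, cokernel.π_desc, cokernel.π_desc,
      Preadditive.add_comp]

/-- The composite of sections with supports and global sections. -/
def suppHomIso :
    LocCohZ.sectSuppF U ⋙ preadditiveCoyoneda.obj (op (CohCx.freeSheaf (Opens.grothendieckTopology X) ⊤)) ≅
      preadditiveCoyoneda.obj (op (LocCohZ.zq (le_top : U ≤ ⊤))) :=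
  NatIso.ofComponents (fun F => AddEquiv.toAddCommGrpIso (suppHomEquiv U F)) fun {F G} g => by
    ext φ
    show suppHomEquiv U G (φ ≫ (LocCohZ.sectSuppF U).map g) = suppHomEquiv U F φ ≫ g
    rw [← cancel_epi (cokernel.π _)]
    refine (cokernel.π_desc _ _ _).trans ?_
    show (φ ≫ (LocCohZ.sectSuppF U).map g) ≫ (suppι U).app G =
      cokernel.π _ ≫ cokernel.desc _ (φ ≫ (suppι U).app F) _ ≫ g
    rw [cokernel.π_desc_assoc, Category.assoc, Category.assoc, (suppι U).naturality g]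
    rfl

/-- An abelian group object vanishing after the sign split. -/
theorem isZero_ite_neg {c : Prop} [Decidable c] (hc : ¬ c) (A : AddCommGrpCat.{u}) :
    IsZero (if c then A else AddCommGrpCat.of PUnit.{u + 1}) := by
  rw [if_neg hc]
  exact AddCommGrpCat.isZero_of_subsingleton _

end Groth.Agent.LocZLib
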