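import Groth.Agent.LocZLib.Derived
import Groth.Agent.LocZLib.Flasque
import Groth.Agent.LocZLib.SpecSeq

/-!
# Vanishing of local cohomology sheaves from vanishing of the groups on a basis
-/

set_option autoImplicit false
set_option backward.isDefEq.respectTransparency false
set_option linter.style.haveILetI false

universe u

open CategoryTheory CategoryTheory.Limits TopologicalSpace Opposite CategoryTheory.Abelian

noncomputable section

namespace Groth.Agent.LocZLib

variable {X : TopCat.{u}} (U : Opens X)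

theorem injective_suppι_app (G : CohTop.Ab X) (V : Opens X) :
    Function.Injective (((suppι U).app G).hom.app (op V)) := by
  rw [← AddCommGrpCat.mono_iff_injective]
  haveI : Mono ((suppι U).app G) := inferInstanceAs (Mono (kernel.ι ((outsideUnit U).app G)))
  exact inferInstanceAs (Mono (((sheafToPresheaf _ _).map ((suppι U).app G)).app (op V)))

variable {U}

/-- A cocycle of sections with supports is a coboundary where the cohomology vanishes. -/
theorem exists_lift_of_subsingleton {F : CohTop.Ab X} (R : InjectiveResolution F) (p : ℕ) {V : Opens X}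
    (hs : Subsingleton (LocCohZ.HZ F (p + 1) (inf_le_left : V ⊓ U ≤ V)))
    (s : ((LocCohZ.sectSuppF U).obj (R.cocomplex.X (p + 1))).obj.obj (op V))
    (hd : ((LocCohZ.sectSuppF U).map (R.cocomplex.d (p + 1) (p + 1 + 1))).hom.app (op V) s = 0) :
    ∃ r, ((LocCohZ.sectSuppF U).map (R.cocomplex.d p (p + 1))).hom.app (op V) r = s := by
  let h : V ⊓ U ≤ V := inf_le_left
  let φ := (homZqEquiv h (R.cocomplex.X (p + 1))).symm
    ⟨((suppι U).app _).hom.app (op V) s, (mem_range_suppι_iff U _ V _).mp ⟨s, rfl⟩⟩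
  have hnat : ∀ {G G' : CohTop.Ab X} (g : G ⟶ G') (t : ((LocCohZ.sectSuppF U).obj G).obj.obj (op V)),
      g.hom.app (op V) (((suppι U).app G).hom.app (op V) t) =
        ((suppι U).app G').hom.app (op V) (((LocCohZ.sectSuppF U).map g).hom.app (op V) t) := fun g t =>
    (ConcreteCategory.congr_hom (congrArg (fun z => z.hom.app (op V)) ((suppι U).naturality g)) t).symm
  have hφ : φ ≫ R.cocomplex.d (p + 1) (p + 1 + 1) = 0 := by
    apply (homZqEquiv h _).injective
    apply Subtype.ext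
    rw [homZqEquiv_natural, map_zero, AddEquiv.apply_symm_apply]
    exact (hnat _ s).trans ((congrArg _ hd).trans (map_zero _))
  obtain ⟨ψ, hψ⟩ := (R.extMk_eq_zero_iff φ (p + 1 + 1) rfl hφ p rfl).mp (hs.elim _ _)
  obtain ⟨r, hr⟩ := (mem_range_suppι_iff U _ V _).mpr (homZqEquiv h _ ψ).2
  refine ⟨r, injective_suppι_app U _ V ((hnat _ r).symm.trans ?_)⟩
  rw [hr, ← homZqEquiv_natural, hψ, AddEquiv.apply_symm_apply]

variable {B : Set (Opens X)} (hB : Opens.IsBasis B)

include hB in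
/-- Vanishing on a basis in a positive degree. -/
theorem isZero_HZsh_succ_of_basis (F : CohTop.Ab X) (p : ℕ)
    (h : ∀ V ∈ B, Subsingleton (LocCohZ.HZ F (p + 1) (inf_le_left : V ⊓ U ≤ V))) :
    IsZero ((LocCohZ.HZsh U (p + 1)).obj F) := by
  let R := injectiveResolution F
  let C := ((LocCohZ.sectSuppF U).mapHomologicalComplex (ComplexShape.up ℕ)).obj R.cocomplex
  refine IsZero.of_iso ?_ (R.isoRightDerivedObj (LocCohZ.sectSuppF U) (p + 1))
  refine HomologicalComplex.ExactAt.isZero_homology ?_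
  rw [HomologicalComplex.exactAt_iff' C p (p + 1) (p + 1 + 1) (by simp) (by simp),
    TopCat.Sheaf.exact_iff_stalkFunctor_map_exact]
  intro x
  rw [ShortComplex.ab_exact_iff]
  intro z hz
  obtain ⟨V₀, hx₀, s, rfl⟩ := TopCat.Presheaf.germ_exist (C.X (p + 1)).obj (x := x) z
  have hz' : TopCat.Presheaf.germ (C.X (p + 1 + 1)).obj V₀ x hx₀ ((C.d (p + 1) (p + 1 + 1)).hom.app (op V₀) s) =
      TopCat.Presheaf.germ (C.X (p + 1 + 1)).obj V₀ x hx₀ 0 := by
    rw [map_zero]
    exact (TopCat.Presheaf.stalkFunctor_map_germ_apply V₀ x hx₀ (C.d (p + 1) (p + 1 + 1)).hom s).symm.trans hz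
  obtain ⟨W, hxW, i₁, i₂, hW⟩ := TopCat.Presheaf.germ_eq _ x hx₀ hx₀ _ _ hz'
  obtain ⟨_, ⟨V, hV, rfl⟩, hxV, hVW⟩ := hB.exists_subset_of_mem_open hxW W.2
  let j : V ⟶ W := homOfLE hVW
  have hd : (C.d (p + 1) (p + 1 + 1)).hom.app (op V) ((C.X (p + 1)).obj.map (j ≫ i₁).op s) = 0 := by
    refine (NatTrans.naturality_apply (C.d (p + 1) (p + 1 + 1)).hom (j ≫ i₁).op s).trans ?_
    rw [op_comp, Functor.map_comp, ConcreteCategory.comp_apply, hW, map_zero, map_zero]
  obtain ⟨r, hr⟩ := exists_lift_of_subsingleton R p (h V hV) _ hd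
  refine ⟨TopCat.Presheaf.germ (C.X p).obj V x hxV r, ?_⟩
  refine (TopCat.Presheaf.stalkFunctor_map_germ_apply V x hxV (C.d p (p + 1)).hom r).trans ?_
  exact (congrArg (TopCat.Presheaf.germ (C.X (p + 1)).obj V x hxV) hr).trans
    (TopCat.Presheaf.germ_res_apply (C.X (p + 1)).obj (j ≫ i₁) x hxV s)

include hB in
/-- Vanishing on a basis in degree zero. -/
theorem isZero_HZsh_zero_of_basis (F : CohTop.Ab X)
    (h : ∀ V ∈ B, Subsingleton (LocCohZ.HZ F 0 (inf_le_left : V ⊓ U ≤ V))) :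
    IsZero ((LocCohZ.HZsh U 0).obj F) := by
  refine (isZero_HZsh_zero_iff U F).mpr fun V s t hst => ?_
  have hcov : ∀ x : X, x ∈ V → ∃ W ∈ B, x ∈ W ∧ W ≤ V := fun x hx => by
    obtain ⟨_, ⟨W, hW, rfl⟩, hxW, hWV⟩ := hB.exists_subset_of_mem_open hx V.2
    exact ⟨W, hW, hxW, hWV⟩
  choose W hW hxW hWV using hcov
  refine TopCat.Sheaf.eq_of_locally_eq' F (fun x : V => W x.1 x.2) V (fun x => homOfLE (hWV x.1 x.2))
    (fun x hx => Opens.mem_iSup.2 ⟨⟨x, hx⟩, hxW x hx⟩) s t fun x => ?_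
  apply (subsingleton_HZ_zero_iff F _).1 (h (W x.1 x.2) (hW x.1 x.2))
  have hst' := congrArg (F.obj.map (homOfLE (inf_le_inf_right U (hWV x.1 x.2))).op) hst
  rw [← ConcreteCategory.comp_apply, ← ConcreteCategory.comp_apply, ← F.obj.map_comp] at hst' ⊢
  exact hst'

end Groth.Agent.LocZLib
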