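import Groth.Agent.LocZLib.Basic
import Groth.Agent.SpSeqLib.DerivedSeq
import Groth.Agent.SpSeqLib.Acyclic

/-!
# Local cohomology sheaves and groups: dimension shift and vanishing
-/

set_option autoImplicit false
set_option backward.isDefEq.respectTransparency false
set_option linter.style.haveILetI false

universe u v v' u₁ u₂

open CategoryTheory CategoryTheory.Limits TopologicalSpace Opposite CategoryTheory.Abelian Pretriangulated

noncomputable section

namespace Groth.Agent.LocZLib

section General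

variable {A : Type u₁} [Category.{v} A] [Abelian A] [EnoughInjectives A]
  {B : Type u₂} [Category.{v'} B] [Abelian B] (S : A ⥤ B) [S.Additive]

attribute [local instance] HasDerivedCategory.standard

/-- Dimension shifting for the vanishing of right derived functors. -/
theorem isZero_succ_iff {T : ShortComplex A} (hT : T.ShortExact) (p : ℕ)
    (h0 : IsZero ((S.rightDerived p).obj T.X₂)) (h1 : IsZero ((S.rightDerived (p + 1)).obj T.X₂)) :
    IsZero ((S.rightDerived (p + 1)).obj T.X₁) ↔ IsZero ((S.rightDerived p).obj T.X₃) := by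
  let T' : Triangle (DerivedCategory.Plus A) := Triangle.mk
    ((DerivedCategory.Plus.singleFunctor A 0).map T.f)
    ((DerivedCategory.Plus.singleFunctor A 0).map T.g)
    (ObjectProperty.homMk (hT.singleδ ≫ ((DerivedCategory.Plus.ι (C := A)).commShiftIso (1 : ℤ)).inv.app
      ((DerivedCategory.Plus.singleFunctor A 0).obj T.X₁)))
  have hT' : T' ∈ distTriang (DerivedCategory.Plus A) := by
    rw [← (DerivedCategory.Plus.ι (C := A)).map_distinguished_iff]
    refine isomorphic_distinguished _ hT.singleTriangle_distinguished _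
      (Triangle.isoMk _ _ (Iso.refl _) (Iso.refl _) (Iso.refl _)
        ((Category.comp_id _).trans (Category.id_comp _).symm)
        ((Category.comp_id _).trans (Category.id_comp _).symm) ?_)
    refine ((congrArg (_ ≫ ·) ((shiftFunctor (DerivedCategory A) (1 : ℤ)).map_id _)).trans
      (Category.comp_id _)).trans (Eq.trans ?_ (Category.id_comp _).symm)
    exact (Category.assoc _ _ _).trans ((congrArg (hT.singleδ ≫ ·)
      (((DerivedCategory.Plus.ι (C := A)).commShiftIso (1 : ℤ)).inv_hom_id_app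
        ((DerivedCategory.Plus.singleFunctor A 0).obj T.X₁))).trans (Category.comp_id _))
  obtain ⟨e₂⟩ := SpSeqLib.nonempty_rG_single_iso S T.X₂ p
  obtain ⟨e₂'⟩ := SpSeqLib.nonempty_rG_single_iso S T.X₂ (p + 1)
  obtain ⟨e₁⟩ := SpSeqLib.nonempty_rG_single_iso S T.X₁ (p + 1)
  obtain ⟨e₃⟩ := SpSeqLib.nonempty_rG_single_iso S T.X₃ p
  rw [← e₁.isZero_iff, ← e₃.isZero_iff]
  refine ⟨fun h => ?_, fun h => ?_⟩
  · exact ((SpSeqLib.rG S).homologySequence_exact₃ T' hT' (p : ℤ) ((p + 1 : ℕ) : ℤ) (by push_cast; rfl)).isZero_of_both_zeros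
      ((h0.of_iso e₂).eq_of_src _ _) (h.eq_of_tgt _ _)
  · exact ((SpSeqLib.rG S).homologySequence_exact₁ T' hT' (p : ℤ) ((p + 1 : ℕ) : ℤ) (by push_cast; rfl)).isZero_of_both_zeros
      (h.eq_of_src _ _) ((h1.of_iso e₂').eq_of_tgt _ _)

theorem isZero_rightDerived_id (q : ℕ) (X : A) : IsZero (((𝟭 A).rightDerived (q + 1)).obj X) :=
  IsZero.of_iso ((injectiveResolution X).cocomplex_exactAt_succ q).isZero_homology
    ((injectiveResolution X).isoRightDerivedObj (𝟭 A) (q + 1))

end General

variable {X : TopCat.{u}} (U : Opens X)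

theorem res_eq (F : CohTop.Ab X) (i : ℕ) {W V : Opens X} (h : W ≤ V) (x : CohTop.HU F i V) :
    CohTop.res F i h x =
      (Ext.mk₀ (CohCx.freeSheafMap (Opens.grothendieckTopology X) (homOfLE h))).comp x (zero_add i) :=
  rfl

theorem subsingleton_HZ_zero_iff (F : CohTop.Ab X) {W V : Opens X} (h : W ≤ V) :
    Subsingleton (LocCohZ.HZ F 0 h) ↔ Function.Injective (F.obj.map (homOfLE h).op) := by
  rw [(LocCohZ.sect0Equiv F h).toEquiv.subsingleton_congr, injective_iff_map_eq_zero]
  refine ⟨fun hs s hs0 => congrArg Subtype.val (hs.elim ⟨s, hs0⟩ 0), fun hi => ?_⟩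
  exact subsingleton_of_forall_eq 0 fun s => Subtype.ext (hi s.1 s.2)

theorem injective_res_zero_iff (F : CohTop.Ab X) {W V : Opens X} (h : W ≤ V) :
    Subsingleton (LocCohZ.HZ F 0 h) ↔ Function.Injective (CohTop.res F 0 h) := by
  rw [injective_iff_map_eq_zero]
  refine ⟨fun hs x hx => ?_, fun hi => subsingleton_of_forall_eq 0 fun z => ?_⟩
  · obtain ⟨z, rfl⟩ := Ext.contravariant_sequence_exact₂ (LocCohZ.zqSeq_shortExact h) F x hx
    rw [hs.elim z 0, Ext.comp_zero]
  · haveI : Epi (cokernel.π (CohCx.freeSheafMap (Opens.grothendieckTopology X) (homOfLE h))) := inferInstance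
    apply Ext.addEquiv₀.injective
    rw [map_zero, ← cancel_epi (cokernel.π (CohCx.freeSheafMap (Opens.grothendieckTopology X) (homOfLE h))),
      comp_zero]
    have h1 := hi (LocCohZ.toHU F 0 h z) (by
      rw [res_eq]
      show (Ext.mk₀ (CohCx.freeSheafMap (Opens.grothendieckTopology X) (homOfLE h))).comp
        ((Ext.mk₀ (cokernel.π (CohCx.freeSheafMap (Opens.grothendieckTopology X) (homOfLE h)))).comp z (zero_add _)) (zero_add _) = 0
      rw [Ext.mk₀_comp_mk₀_assoc, cokernel.condition, Ext.mk₀_zero, Ext.zero_comp])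
    obtain ⟨φ, rfl⟩ := Ext.addEquiv₀.symm.surjective z
    rw [AddEquiv.apply_symm_apply]
    apply Ext.addEquiv₀.symm.injective
    rw [map_zero, ← h1]
    exact (Ext.mk₀_comp_mk₀ _ _).symm

theorem subsingleton_HZ_succ_iff (F : CohTop.Ab X) (i : ℕ) {W V : Opens X} (h : W ≤ V) :
    Subsingleton (LocCohZ.HZ F (i + 1) h) ↔
      Function.Surjective (CohTop.res F i h) ∧ Function.Injective (CohTop.res F (i + 1) h) := by
  refine ⟨fun hs => ⟨fun y => ?_, (injective_iff_map_eq_zero _).mpr fun x hx => ?_⟩, fun hh => ?_⟩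
  · exact Ext.contravariant_sequence_exact₁ (LocCohZ.zqSeq_shortExact h) F y (by omega : 1 + i = i + 1) (hs.elim _ _)
  · obtain ⟨z, rfl⟩ := Ext.contravariant_sequence_exact₂ (LocCohZ.zqSeq_shortExact h) F x hx
    rw [hs.elim z 0, Ext.comp_zero]
  · refine subsingleton_of_forall_eq 0 fun z => ?_
    have h1 : LocCohZ.toHU F (i + 1) h z = 0 := (injective_iff_map_eq_zero _).mp hh.2 _ (by
      rw [res_eq]
      show (Ext.mk₀ (CohCx.freeSheafMap (Opens.grothendieckTopology X) (homOfLE h))).comp
        ((Ext.mk₀ (cokernel.π (CohCx.freeSheafMap (Opens.grothendieckTopology X) (homOfLE h)))).comp z (zero_add _)) (zero_add _) = 0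
      rw [Ext.mk₀_comp_mk₀_assoc, cokernel.condition, Ext.mk₀_zero, Ext.zero_comp])
    obtain ⟨y, rfl⟩ := Ext.contravariant_sequence_exact₃ (LocCohZ.zqSeq_shortExact h) F z h1 (by omega : 1 + i = i + 1)
    obtain ⟨x, rfl⟩ := hh.1 y
    rw [res_eq]
    exact (Ext.comp_assoc _ _ _ (by omega) (by omega) (by omega)).symm.trans
      ((congrArg (fun e => Ext.comp e x (by omega : 1 + i = i + 1)) (LocCohZ.zqSeq_shortExact h).extClass_comp).trans
        (by simp))

theorem delta_eq_zero_iff (F : CohTop.Ab X) (i : ℕ) {W V : Opens X} (h : W ≤ V) :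
    LocCohZ.delta F i h = 0 ↔ Function.Surjective (CohTop.res F i h) := by
  refine ⟨fun hd y => ?_, fun hs => AddMonoidHom.ext fun y => ?_⟩
  · exact Ext.contravariant_sequence_exact₁ (LocCohZ.zqSeq_shortExact h) F y (by omega : 1 + i = i + 1)
      (DFunLike.congr_fun hd y)
  · obtain ⟨x, rfl⟩ := hs y
    exact (Ext.comp_assoc _ _ _ (by omega) (by omega) (by omega)).symm.trans
      ((congrArg (fun e => Ext.comp e x (by omega : 1 + i = i + 1)) (LocCohZ.zqSeq_shortExact h).extClass_comp).trans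
        (by simp))

/-- A sheaf without sections supported outside `U` embeds into an injective one. -/
theorem exists_embedding (F : CohTop.Ab X) (h : Mono ((outsideUnit U).app F)) :
    ∃ T : ShortComplex (CohTop.Ab X), T.ShortExact ∧ T.X₁ = F ∧ Injective T.X₂ ∧ Mono ((outsideUnit U).app T.X₂) := by
  haveI := h
  let G := (CohTop.pull (CohCx.incl U)).obj F
  let f : F ⟶ (CohTop.push (CohCx.incl U)).obj (Injective.under G) :=
    (outsideUnit U).app F ≫ (CohTop.push (CohCx.incl U)).map (Injective.ι G)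
  haveI : Mono ((CohTop.push (CohCx.incl U)).map (Injective.ι G)) := (CohTop.push (CohCx.incl U)).map_mono _
  haveI : Mono f := mono_comp _ _
  exact ⟨ShortComplex.mk f (cokernel.π f) (cokernel.condition f),
    { exact := ShortComplex.exact_of_g_is_cokernel _ (cokernelIsCokernel f)
      mono_f := inferInstanceAs (Mono f)
      epi_g := inferInstanceAs (Epi (cokernel.π f)) },
    rfl, inferInstanceAs (Injective ((CohTop.push (CohCx.incl U)).obj (Injective.under G))), mono_unit_push U _⟩

variable {T : ShortComplex (CohTop.Ab X)} (hT : T.ShortExact) [Injective T.X₂]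
  (hI : Mono ((outsideUnit U).app T.X₂))

include hI in
theorem subsingleton_HZ_X₂ (V : Opens X) : ∀ i, Subsingleton (LocCohZ.HZ T.X₂ i (inf_le_left : V ⊓ U ≤ V))
  | 0 => (subsingleton_HZ_zero_iff _ _).mpr ((mono_unit_iff U _).mp hI V)
  | n + 1 => Ext.subsingleton_of_injective _ _ n

include hT hI in
theorem injective_postcomp_extClass (V : Opens X) (i : ℕ)
    (z : LocCohZ.HZ T.X₃ i (inf_le_left : V ⊓ U ≤ V)) (hz : Ext.comp z hT.extClass rfl = 0) : z = 0 := by
  obtain ⟨w, rfl⟩ := Ext.covariant_sequence_exact₃ _ hT z rfl hz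
  rw [(subsingleton_HZ_X₂ U hI V i).elim w 0, Ext.zero_comp]

include hT hI in
theorem subsingleton_HZ_shift (V : Opens X) (i : ℕ) :
    Subsingleton (LocCohZ.HZ T.X₁ (i + 1) (inf_le_left : V ⊓ U ≤ V)) ↔
      Subsingleton (LocCohZ.HZ T.X₃ i (inf_le_left : V ⊓ U ≤ V)) := by
  refine ⟨fun hs => subsingleton_of_forall_eq 0 fun z => injective_postcomp_extClass U hT hI V i z (hs.elim _ _),
    fun hs => subsingleton_of_forall_eq 0 fun z => ?_⟩
  obtain ⟨w, rfl⟩ := Ext.covariant_sequence_exact₁ _ hT z ((subsingleton_HZ_X₂ U hI V (i + 1)).elim _ _) rfl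
  rw [hs.elim w 0, Ext.zero_comp]

include hT hI in
theorem surjective_res_shift (V : Opens X) (i : ℕ)
    (h : Function.Surjective (CohTop.res T.X₁ (i + 1) (inf_le_left : V ⊓ U ≤ V))) :
    Function.Surjective (CohTop.res T.X₃ i (inf_le_left : V ⊓ U ≤ V)) := by
  rw [← delta_eq_zero_iff] at h ⊢
  ext y
  refine injective_postcomp_extClass U hT hI V (i + 1) _ ?_
  refine Eq.trans ?_ (DFunLike.congr_fun h (Ext.comp y hT.extClass rfl))
  exact Ext.comp_assoc _ _ _ (by omega) (by omega) (by omega)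

include hT hI in
theorem isZero_HZsh_shift (i : ℕ) :
    IsZero ((LocCohZ.HZsh U (i + 1)).obj T.X₁) ↔ IsZero ((LocCohZ.HZsh U i).obj T.X₃) := by
  refine isZero_succ_iff (LocCohZ.sectSuppF U) hT i ?_ ((LocCohZ.sectSuppF U).isZero_rightDerived_obj_injective_succ i T.X₂)
  cases i with
  | zero => exact (isZero_HZsh_zero_iff U _).mpr ((mono_unit_iff U _).mp hI)
  | succ n => exact (LocCohZ.sectSuppF U).isZero_rightDerived_obj_injective_succ n T.X₂

omit [Injective T.X₂] in
theorem isZero_HZsh_zero_iff_HZ (F : CohTop.Ab X) :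
    IsZero ((LocCohZ.HZsh U 0).obj F) ↔ ∀ V : Opens X, Subsingleton (LocCohZ.HZ F 0 (inf_le_left : V ⊓ U ≤ V)) := by
  rw [isZero_HZsh_zero_iff]
  exact forall_congr' fun V => (subsingleton_HZ_zero_iff F _).symm

/-- Vanishing of local cohomology sheaves and groups below a degree are equivalent. -/
theorem isZero_HZsh_lt_iff : ∀ (n : ℕ) (F : CohTop.Ab X),
    (∀ i, i < n → IsZero ((LocCohZ.HZsh U i).obj F)) ↔
      ∀ (V : Opens X) (i : ℕ), i < n → Subsingleton (LocCohZ.HZ F i (inf_le_left : V ⊓ U ≤ V))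
  | 0, F => ⟨fun _ _ i hi => absurd hi (Nat.not_lt_zero i), fun _ i hi => absurd hi (Nat.not_lt_zero i)⟩
  | n + 1, F => by
    refine ⟨fun h V i hi => ?_, fun h i hi => ?_⟩
    · have h0 := h 0 n.succ_pos
      cases i with
      | zero => exact (isZero_HZsh_zero_iff_HZ U F).mp h0 V
      | succ j =>
        obtain ⟨T, hT, rfl, hinj, hI⟩ := exists_embedding U F ((mono_unit_iff U F).mpr ((isZero_HZsh_zero_iff U F).mp h0))
        haveI := hinj
        rw [subsingleton_HZ_shift U hT hI]
        exact (isZero_HZsh_lt_iff n T.X₃).mp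
          (fun k hk => (isZero_HZsh_shift U hT hI k).mp (h (k + 1) (by omega))) V j (by omega)
    · have h0 : IsZero ((LocCohZ.HZsh U 0).obj F) := (isZero_HZsh_zero_iff_HZ U F).mpr fun V => h V 0 n.succ_pos
      cases i with
      | zero => exact h0
      | succ j =>
        obtain ⟨T, hT, rfl, hinj, hI⟩ := exists_embedding U F ((mono_unit_iff U F).mpr ((isZero_HZsh_zero_iff U F).mp h0))
        haveI := hinj
        rw [isZero_HZsh_shift U hT hI]
        exact (isZero_HZsh_lt_iff n T.X₃).mpr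
          (fun V k hk => (subsingleton_HZ_shift U hT hI V k).mp (h V (k + 1) (by omega))) j (by omega)

omit [Injective T.X₂] in
/-- The first local cohomology sheaf vanishes when restrictions of sections are surjective. -/
theorem isZero_HZsh_one_of_surjective (F : CohTop.Ab X)
    (h : ∀ V : Opens X, Function.Surjective (F.obj.map (homOfLE (inf_le_left : V ⊓ U ≤ V)).op)) :
    IsZero ((LocCohZ.HZsh U 1).obj F) := by
  haveI := epi_unit_of_surjective U h
  let w := fun Y : CohTop.Ab X => suppι_unit U Y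
  let hex := fun (I : CohTop.Ab X) (hI : Injective I) => shortExact_injective U I hI
  haveI := SpSeqLib.epi_derivedδ (suppι U) (outsideUnit U) w hex isZero_rightDerived_id 0 F
  haveI : Epi ((SpSeqLib.toDerivedOne (suppι U) (outsideUnit U) w hex).app F) := by
    simp only [SpSeqLib.toDerivedOne, NatTrans.comp_app]
    infer_instance
  refine IsZero.of_epi_eq_zero ((SpSeqLib.toDerivedOne (suppι U) (outsideUnit U) w hex).app F) ?_
  rw [← cancel_epi ((outsideUnit U).app F), SpSeqLib.comp_toDerivedOne, comp_zero]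

omit [Injective T.X₂] in
/-- Vanishing at the top degree from a surjective restriction. -/
theorem isZero_HZsh_succ_of_surjective : ∀ (N : ℕ) (F : CohTop.Ab X),
    (∀ (V : Opens X) (i : ℕ), i < N + 1 → Subsingleton (LocCohZ.HZ F i (inf_le_left : V ⊓ U ≤ V))) →
    (∀ V : Opens X, Function.Surjective (CohTop.res F N (inf_le_left : V ⊓ U ≤ V))) →
    IsZero ((LocCohZ.HZsh U (N + 1)).obj F)
  | 0, F, _, hs => by
    refine isZero_HZsh_one_of_surjective U F fun V s => ?_
    let J := Opens.grothendieckTopology X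
    obtain ⟨x, hx⟩ := hs V (Ext.addEquiv₀.symm (CohFree.ofSect J (V ⊓ U) F s))
    refine ⟨CohFree.evalGen J V F (Ext.addEquiv₀ x), ?_⟩
    rw [← CohFree.evalGen_freeSheafMap_comp]
    have h2 : Ext.addEquiv₀.symm (CohCx.freeSheafMap J (homOfLE (inf_le_left : V ⊓ U ≤ V)) ≫ Ext.addEquiv₀ x) =
        Ext.addEquiv₀.symm (CohFree.ofSect J (V ⊓ U) F s) := by
      refine Eq.trans ?_ hx
      obtain ⟨φ, hφ⟩ : ∃ φ, x = Ext.mk₀ φ := ⟨Ext.addEquiv₀ x, (Ext.addEquiv₀.symm_apply_apply x).symm⟩
      subst hφ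
      refine Eq.trans ?_ (Ext.mk₀_comp_mk₀ _ _).symm
      exact congrArg Ext.mk₀ (congrArg (_ ≫ ·) (Ext.addEquiv₀.apply_symm_apply φ))
    rw [Ext.addEquiv₀.symm.injective h2, CohFree.evalGen_ofSect]
  | N + 1, F, h, hs => by
    obtain ⟨T, hT, rfl, hinj, hI⟩ := exists_embedding U F
      ((mono_unit_iff U F).mpr fun V => (subsingleton_HZ_zero_iff F _).mp (h V 0 (by omega)))
    haveI := hinj
    rw [isZero_HZsh_shift U hT hI]
    exact isZero_HZsh_succ_of_surjective N T.X₃
      (fun V i hi => (subsingleton_HZ_shift U hT hI V i).mp (h V (i + 1) (by omega)))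
      (fun V => surjective_res_shift U hT hI V N (hs V))

end Groth.Agent.LocZLib
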