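import Groth.Agent.LocZLib.Flasque
import Groth.Agent.CohTopEasy.Basic
import Groth.Agent.SpSeqLib.Acyclic
import Groth.Prelude.Def_SuppFam

/-!
# Flasque sheaves are acyclic for sections with supports in a locally closed subset
-/

set_option autoImplicit false
set_option backward.isDefEq.respectTransparency false
set_option linter.style.haveILetI false

universe u

open CategoryTheory CategoryTheory.Limits TopologicalSpace Opposite

noncomputable section

namespace Groth.Agent.LocZLib

variable {X : TopCat.{u}}

instance preservesFiniteLimits_restrF (V : Opens X) : PreservesFiniteLimits (CohTop.restrFunctor V) :=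
  haveI : PreservesLimitsOfSize.{0, 0} (CohTop.restrFunctor V) :=
    (extendOpenAdj (g := CohCx.incl V) V.isOpenEmbedding).rightAdjoint_preservesLimits
  inferInstance

instance preservesFiniteColimits_restrF (V : Opens X) : PreservesFiniteColimits (CohTop.restrFunctor V) :=
  haveI : PreservesColimitsOfSize.{0, 0} (CohTop.restrFunctor V) :=
    (restrPushAdj V).leftAdjoint_preservesColimits
  inferInstance

theorem isFlasque_restr (V : Opens X) (F : CohTop.Ab X) [TopCat.Sheaf.IsFlasque F] :
    TopCat.Sheaf.IsFlasque ((CohTop.restrFunctor V).obj F) :=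
  isFlasque_of_surjective _ fun h => surjective_res_flasque F
    (leOfHom (V.isOpenEmbedding.isOpenMap.functor.map (homOfLE h)))

/-- An exact left exact functor on a short exact sequence with first term flasque. -/
theorem shortExact_map_of_acyclic {A B : Type*} [Category A] [Abelian A] [EnoughInjectives A] [Category B] [Abelian B]
    (S : A ⥤ B) [S.Additive] [PreservesFiniteLimits S] {T : ShortComplex A} (hT : T.ShortExact)
    (h : IsZero ((S.rightDerived 1).obj T.X₁)) : (T.map S).ShortExact := by
  haveI := SpSeqLib.epi_map_of_isZero_rightDerived_one S hT h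
  haveI := hT.mono_f
  refine { exact := ?_, mono_f := inferInstanceAs (Mono (S.map T.f)), epi_g := inferInstanceAs (Epi (S.map T.g)) }
  have h3 : ∀ (Q : ShortComplex A), Q.ShortExact → (Q.map S).Exact ∧ Mono (S.map Q.f) :=
    ((Functor.preservesFiniteLimits_tfae S).out 3 0).mp (by assumption)
  exact (h3 T hT).1

/-- The abbreviation for the local cohomology functor. -/
theorem shortExact_sectSuppLC {W V : Opens X} (h : W ≤ V) {T : ShortComplex (CohTop.Ab X)} (hT : T.ShortExact)
    [TopCat.Sheaf.IsFlasque T.X₁] : (T.map (SuppFam.sectSuppLC h)).ShortExact := by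
  have h1 := hT.map_of_exact (CohTop.restrFunctor V)
  haveI := isFlasque_restr V T.X₁
  haveI := preservesFiniteLimits_sectSupp (X := TopCat.of V) (SuppFam.inOpen V W)
  have h2 := shortExact_map_of_acyclic (LocCohZ.sectSuppF (SuppFam.inOpen V W)) h1
    (isZero_HZsh_flasque (SuppFam.inOpen V W) 0 ((CohTop.restrFunctor V).obj T.X₁))
  haveI : TopCat.Sheaf.IsFlasque ((LocCohZ.sectSuppF (SuppFam.inOpen V W)).obj ((CohTop.restrFunctor V).obj T.X₁)) :=
    isFlasque_sectSupp _ _
  haveI := preservesFiniteLimits_push (X := X) V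
  exact shortExact_map_of_acyclic (CohTop.push (CohCx.incl V)) h2
    (CohTopEasy.isZero_Rpush_flasque (CohCx.incl V)
      ((LocCohZ.sectSuppF (SuppFam.inOpen V W)).obj ((CohTop.restrFunctor V).obj T.X₁)) 0)

instance preservesFiniteLimits_sectSuppLC {W V : Opens X} (h : W ≤ V) :
    PreservesFiniteLimits (SuppFam.sectSuppLC h) := by
  haveI := preservesFiniteLimits_sectSupp (X := TopCat.of V) (SuppFam.inOpen V W)
  haveI : PreservesFiniteLimits (LocCohZ.sectSuppF (SuppFam.inOpen V W) ⋙ CohTop.push (CohCx.incl V)) :=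
    comp_preservesFiniteLimits _ _
  exact comp_preservesFiniteLimits (CohTop.restrFunctor V) _

theorem isAcyclicFor_sectSuppLC {W V : Opens X} (h : W ≤ V) (F : CohTop.Ab X) [TopCat.Sheaf.IsFlasque F] :
    SpSeqLib.IsAcyclicFor (SuppFam.sectSuppLC h) F := by
  refine SpSeqLib.isAcyclicFor_of_class (SuppFam.sectSuppLC h) (fun G => TopCat.Sheaf.IsFlasque G) ?_ ?_ ?_ inferInstance
  · intro P Q e hP
    exact isFlasque_of_surjective Q fun {A B} hAB s => by
      obtain ⟨t, ht⟩ := surjective_res_flasque P hAB (e.inv.hom.app (op A) s)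
      refine ⟨e.hom.hom.app (op B) t, ?_⟩
      have := ConcreteCategory.congr_hom (e.hom.hom.naturality (homOfLE hAB).op) t
      refine this.symm.trans ?_
      change e.hom.hom.app (op A) (P.obj.map (homOfLE hAB).op t) = s
      rw [ht]
      exact ConcreteCategory.congr_hom (congrArg (fun z => z.hom.app (op A)) e.inv_hom_id) s
  · intro T hT hI hP
    haveI := hP
    haveI := hI
    haveI : TopCat.Sheaf.IsFlasque T.X₂ := isFlasque_injective T.X₂
    exact TopCat.Sheaf.IsFlasque.of_shortExact_of_isFlasque₁₂ hT
  · intro T hT hI hP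
    haveI := hP
    exact (shortExact_sectSuppLC h hT).epi_g

/-- Two maps out of a sheaf killing the same sections have isomorphic kernels. -/
def kernelIsoOfSections {A B B' : CohTop.Ab X} (a : A ⟶ B) (a' : A ⟶ B')
    (h : ∀ (T : (Opens X)ᵒᵖ) (s : A.obj.obj T), a.hom.app T s = 0 ↔ a'.hom.app T s = 0) :
    kernel a ≅ kernel a' where
  hom := kernel.lift a' (kernel.ι a) (by
    apply Sheaf.hom_ext
    ext T t
    exact (h T _).1 (ConcreteCategory.congr_hom (congrArg (fun z => z.hom.app T) (kernel.condition a)) t))
  inv := kernel.lift a (kernel.ι a') (by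
    apply Sheaf.hom_ext
    ext T t
    exact (h T _).2 (ConcreteCategory.congr_hom (congrArg (fun z => z.hom.app T) (kernel.condition a')) t))
  hom_inv_id := by rw [← cancel_mono (kernel.ι a)]; simp
  inv_hom_id := by rw [← cancel_mono (kernel.ι a')]; simp

theorem kernelIsoOfSections_hom_ι {A B B' : CohTop.Ab X} (a : A ⟶ B) (a' : A ⟶ B')
    (h : ∀ (T : (Opens X)ᵒᵖ) (s : A.obj.obj T), a.hom.app T s = 0 ↔ a'.hom.app T s = 0) :
    (kernelIsoOfSections a a' h).hom ≫ kernel.ι a' = kernel.ι a :=
  kernel.lift_ι _ _ _

/-- A section is killed by the unit iff it vanishes on the open. -/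
theorem unit_app_eq_zero_iff (U : Opens X) (F : CohTop.Ab X) (V : Opens X) (s : F.obj.obj (op V)) :
    ((outsideUnit U).app F).hom.app (op V) s = 0 ↔
      F.obj.map (homOfLE (inf_le_left : V ⊓ U ≤ V)).op s = 0 := by
  rw [unit_app_eq]
  change ((CohTop.push (CohCx.incl U)).map ((restrPullIso U).hom.app F)).hom.app (op V)
    (((restrPushAdj U).unit.app F).hom.app (op V) s) = 0 ↔ _
  have h1 : Function.Injective (((CohTop.push (CohCx.incl U)).map ((restrPullIso U).hom.app F)).hom.app (op V)) := by
    rw [← AddCommGrpCat.mono_iff_injective]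
    exact inferInstanceAs (Mono (((sheafToPresheaf _ _).map
      ((CohTop.push (CohCx.incl U)).map ((restrPullIso U).hom.app F))).app (op V)))
  rw [map_eq_zero_iff _ h1]
  have e : ((restrPushAdj U).unit.app F).hom.app (op V) =
      F.obj.map (homOfLE (inf_le_left : V ⊓ U ≤ V)).op ≫ F.obj.map (eqToHom (functor_map_eq U V)).op := by
    rw [← F.obj.map_comp]
    rfl
  rw [e]
  exact map_eq_zero_iff _ ((AddCommGrpCat.mono_iff_injective (F.obj.map (eqToHom (functor_map_eq U V)).op)).mp inferInstance)

end Groth.Agent.LocZLib
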