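import Groth.Agent.LocZLib.GammaQCoh
import Groth.Agent.LocZLib.SheafLC
import Groth.Agent.LocZLib.Excision
import Groth.Agent.RpushLib.ToAb
import Groth.Agent.SpSeqLib.AcyclicResolution

/-!
# Quasi-coherence of local cohomology sheaves along locally closed subsets
-/

set_option autoImplicit false
set_option backward.isDefEq.respectTransparency false
set_option linter.style.haveILetI false

universe u

open CategoryTheory CategoryTheory.Limits AlgebraicGeometry TopologicalSpace Opposite

noncomputable section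

namespace Groth.Agent.LocZLib.QCohLC

open GammaQCoh

section Kernel

variable {U Z : Scheme.{u}} (k : U ⟶ Z) [IsOpenImmersion k]

theorem toAb_unit_eq_zero_iff (M : Z.Modules) (T : (Opens Z.carrier)ᵒᵖ) (s : (Coh.toAb M).obj.obj T) :
    ((QCohLib.toAbF Z).map ((outUnit k).app M)).hom.app T s = 0 ↔
      ((outsideUnit k.opensRange).app (Coh.toAb M)).hom.app T s = 0 := by
  obtain ⟨T⟩ := T
  rw [unit_app_eq_zero_iff]
  change ((Scheme.Modules.restrictAdjunction k).unit.app M).app T s = 0 ↔ _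
  rw [Scheme.Modules.restrictAdjunction_unit_app_app]
  have e : T ⊓ k.opensRange = k ''ᵁ k ⁻¹ᵁ T := by rw [k.image_preimage_eq_opensRange_inf, inf_comm]
  change (Coh.toAb M).obj.map (homOfLE (k.image_preimage_le T)).op s = 0 ↔ _
  constructor
  · intro h
    rw [← rres (homOfLE (k.image_preimage_le T)) (eqToHom e) _ s]
    exact (congrArg _ h).trans (map_zero _)
  · intro h
    rw [← rres (homOfLE (inf_le_left : T ⊓ k.opensRange ≤ T)) (eqToHom e.symm) _ s]
    exact (congrArg _ h).trans (map_zero _)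

/-- Sections with supports commute with forgetting the module structure: components. -/
def gammaZAppIso (M : Z.Modules) :
    (QCohLib.toAbF Z).obj ((DCoh.gammaZ k).obj M) ≅ (LocCohZ.sectSuppF k.opensRange).obj ((QCohLib.toAbF Z).obj M) :=
  PreservesKernel.iso (QCohLib.toAbF Z) ((outUnit k).app M) ≪≫
    kernelIsoOfSections ((QCohLib.toAbF Z).map ((outUnit k).app M))
      ((outsideUnit k.opensRange).app ((QCohLib.toAbF Z).obj M)) (toAb_unit_eq_zero_iff k M)

theorem gammaZAppIso_hom_ι (M : Z.Modules) :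
    (gammaZAppIso k M).hom ≫ (suppι k.opensRange).app ((QCohLib.toAbF Z).obj M) =
      (QCohLib.toAbF Z).map ((CxOX.gammaZι k).app M) := by
  refine (Category.assoc _ _ _).trans ((congrArg (_ ≫ ·) (kernelIsoOfSections_hom_ι _ _ _)).trans ?_)
  exact kernelComparison_comp_ι ((outUnit k).app M) (QCohLib.toAbF Z)

/-- Sections with supports commute with forgetting the module structure. -/
def gammaZToAbIso :
    DCoh.gammaZ k ⋙ QCohLib.toAbF Z ≅ QCohLib.toAbF Z ⋙ LocCohZ.sectSuppF k.opensRange :=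
  NatIso.ofComponents (gammaZAppIso k) fun {M N} φ => by
    haveI : Mono ((suppι k.opensRange).app ((QCohLib.toAbF Z).obj N)) :=
      inferInstanceAs (Mono (kernel.ι ((outsideUnit k.opensRange).app ((QCohLib.toAbF Z).obj N))))
    rw [← cancel_mono ((suppι k.opensRange).app ((QCohLib.toAbF Z).obj N))]
    refine (Category.assoc _ _ _).trans ((congrArg (_ ≫ ·) (gammaZAppIso_hom_ι k N)).trans ?_)
    refine ((QCohLib.toAbF Z).map_comp _ _).symm.trans ((congrArg (QCohLib.toAbF Z).map
      ((CxOX.gammaZι k).naturality φ)).trans (((QCohLib.toAbF Z).map_comp _ _).trans ?_))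
    refine (congrArg (· ≫ _) (gammaZAppIso_hom_ι k M).symm).trans ((Category.assoc _ _ _).trans ?_)
    exact (congrArg (_ ≫ ·) ((suppι k.opensRange).naturality _).symm).trans (Category.assoc _ _ _).symm

end Kernel

/-- The middle of an exact sequence with quasi-coherent neighbours. -/
theorem isQCoh_middle {Y : Scheme.{u}} {A B C D E : Y.Modules} (a : A ⟶ B) (b : B ⟶ C) (c : C ⟶ D) (d : D ⟶ E)
    (hab : a ≫ b = 0) (hbc : b ≫ c = 0) (hcd : c ≫ d = 0)
    (exB : (ShortComplex.mk a b hab).Exact) (exC : (ShortComplex.mk b c hbc).Exact)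
    (exD : (ShortComplex.mk c d hcd).Exact)
    (hA : Coh.IsQCoh A) (hB : Coh.IsQCoh B) (hD : Coh.IsQCoh D) (hE : Coh.IsQCoh E) : Coh.IsQCoh C := by
  let T : ShortComplex Y.Modules := ShortComplex.mk (cokernel.desc a b hab) (kernel.lift d c hcd) (by
    rw [← cancel_epi (cokernel.π a), ← cancel_mono (kernel.ι d)]
    simp [hbc])
  have hT : T.ShortExact :=
    { exact := by
        rw [ShortComplex.exact_iff_exact_up_to_refinements]
        intro W x hx
        have hx' : x ≫ c = 0 := by
          rw [← kernel.lift_ι d c hcd, ← Category.assoc]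
          exact (congrArg (· ≫ kernel.ι d) hx).trans zero_comp
        obtain ⟨W', p, hp, y, hy⟩ := exC.exact_up_to_refinements x hx'
        exact ⟨W', p, hp, y ≫ cokernel.π a, hy.trans ((congrArg (y ≫ ·) (cokernel.π_desc a b hab).symm).trans
          (Category.assoc _ _ _).symm)⟩
      mono_f := exB.mono_cokernelDesc
      epi_g := exD.epi_kernelLift }
  exact QCohLib.isQCoh_X₂ hT (QCohLib.isQCoh_image a hA hB).2 (QCohLib.isQCoh_image d hD hE).1

/-- Direct image of the restriction to an open: derived functors of quasi-coherent modules. -/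
theorem isQCoh_rightDerived_out {U Y : Scheme.{u}} (j : U ⟶ Y) [IsOpenImmersion j] [QuasiCompact j]
    [HasInjectiveResolutions Y.Modules] [HasInjectiveResolutions U.Modules]
    (M : Y.Modules) (hM : Coh.IsQCoh M) (q : ℕ) : Coh.IsQCoh (((out j).rightDerived q).obj M) := by
  haveI := hM
  refine (SheafOfModules.isQuasicoherent Y.ringCatSheaf).prop_of_iso
    ((SpSeqLib.rightDerivedPrecompIso (Scheme.Modules.restrictFunctor j) (injective_restrict j)
      (Scheme.Modules.pushforward j) q).app M).symm ?_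
  haveI : Coh.IsQCoh ((Scheme.Modules.restrictFunctor j).obj M) := inferInstance
  exact RpushLib.isQCoh_rpush (f := j) (M := (Scheme.Modules.restrictFunctor j).obj M) q

variable {Y : Scheme.{u}} {V₂ V₁ : Y.Opens} (h : V₂ ≤ V₁)

/-- Sections with supports in `V₁ ∖ V₂`, for modules. -/
abbrev GM : Y.Modules ⥤ Y.Modules :=
  Scheme.Modules.restrictFunctor V₁.ι ⋙ DCoh.gammaZ (Y.homOfLE h) ⋙ Scheme.Modules.pushforward V₁.ι

/-- The third term. -/
abbrev HM : Y.Modules ⥤ Y.Modules :=
  Scheme.Modules.restrictFunctor V₁.ι ⋙ out (Y.homOfLE h) ⋙ Scheme.Modules.pushforward V₁.ι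

/-- The first map. -/
abbrev αM : GM h ⟶ out V₁.ι :=
  Functor.whiskerLeft (Scheme.Modules.restrictFunctor V₁.ι)
    (Functor.whiskerRight (CxOX.gammaZι (Y.homOfLE h)) (Scheme.Modules.pushforward V₁.ι))

/-- The second map. -/
abbrev βM : out V₁.ι ⟶ HM h :=
  Functor.whiskerLeft (Scheme.Modules.restrictFunctor V₁.ι)
    (Functor.whiskerRight (outUnit (Y.homOfLE h)) (Scheme.Modules.pushforward V₁.ι))

theorem αβ (F : Y.Modules) : (αM h).app F ≫ (βM h).app F = 0 :=
  ((Scheme.Modules.pushforward V₁.ι).map_comp _ _).symm.trans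
    ((congrArg (Scheme.Modules.pushforward V₁.ι).map (ι_unit _ _)).trans (Functor.map_zero _ _ _))

theorem shortExact_αβ (I : Y.Modules) (hI : Injective I) :
    (ShortComplex.mk ((αM h).app I) ((βM h).app I) (αβ h I)).ShortExact := by
  have hJ := injective_restrict V₁.ι I hI
  have hS := GammaQCoh.shortExact_injective (Y.homOfLE h) _ hJ
  haveI : PreservesFiniteLimits (Scheme.Modules.pushforward V₁.ι) :=
    haveI : PreservesLimitsOfSize.{0, 0} (Scheme.Modules.pushforward V₁.ι) :=
      (Scheme.Modules.restrictAdjunction V₁.ι).rightAdjoint_preservesLimits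
    inferInstance
  have h3 : ∀ (Q : ShortComplex (V₁ : Scheme.{u}).Modules), Q.ShortExact →
      (Q.map (Scheme.Modules.pushforward V₁.ι)).Exact ∧ Mono ((Scheme.Modules.pushforward V₁.ι).map Q.f) :=
    ((Functor.preservesFiniteLimits_tfae (Scheme.Modules.pushforward V₁.ι)).out 3 0).mp (by assumption)
  refine { exact := (h3 _ hS).1, mono_f := (h3 _ hS).2, epi_g := ?_ }
  refine (Scheme.Modules.toPresheaf Y).epi_of_epi_map (f := (βM h).app I) ?_
  haveI : ∀ T, Epi (((Scheme.Modules.toPresheaf Y).map ((βM h).app I)).app T) := fun T => by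
    rw [AddCommGrpCat.epi_iff_surjective]
    intro s
    show ∃ t, ((Scheme.Modules.restrictAdjunction (Y.homOfLE h)).unit.app
      ((Scheme.Modules.restrictFunctor V₁.ι).obj I)).app (V₁.ι ⁻¹ᵁ T.unop) t = s
    rw [Scheme.Modules.restrictAdjunction_unit_app_app]
    exact DCohLib.surjective_res_injective' _ ((Y.homOfLE h).image_preimage_le _) s
  exact NatTrans.epi_of_epi_app _

/-- The third term is the direct image from `V₂`. -/
def hmIso : HM h ≅ out V₂.ι :=
  (Functor.associator _ _ _).symm ≪≫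
    Functor.isoWhiskerRight ((Functor.associator _ _ _).symm) _ ≪≫
    Functor.associator _ _ _ ≪≫
    Functor.isoWhiskerLeft _ (Scheme.Modules.pushforwardComp (Y.homOfLE h) V₁.ι ≪≫
      Scheme.Modules.pushforwardCongr (Y.homOfLE_ι h)) ≪≫
    Functor.isoWhiskerRight ((Scheme.Modules.restrictFunctorComp (Y.homOfLE h) V₁.ι).symm ≪≫
      Scheme.Modules.restrictFunctorCongr (Y.homOfLE_ι h)) _

theorem isQCoh_rightDerived_GM [QuasiCompact V₁.ι] [QuasiCompact V₂.ι]
    [HasInjectiveResolutions Y.Modules] [HasInjectiveResolutions (V₁ : Scheme.{u}).Modules]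
    [HasInjectiveResolutions (V₂ : Scheme.{u}).Modules]
    (M : Y.Modules) (hM : Coh.IsQCoh M) (q : ℕ) : Coh.IsQCoh (((GM h).rightDerived q).obj M) := by
  let R := injectiveResolution M
  let S := SpSeqLib.seqCx (αM h) (βM h) (αβ h) R.cocomplex
  have hS : S.ShortExact := SpSeqLib.shortExact_seqCx (αM h) (βM h) (αβ h) (shortExact_αβ h) R
  have h2 : ∀ p, Coh.IsQCoh (S.X₂.homology p) := fun p =>
    (SheafOfModules.isQuasicoherent Y.ringCatSheaf).prop_of_iso (R.isoRightDerivedObj (out V₁.ι) p)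
      (isQCoh_rightDerived_out V₁.ι M hM p)
  have h3 : ∀ p, Coh.IsQCoh (S.X₃.homology p) := fun p =>
    (SheafOfModules.isQuasicoherent Y.ringCatSheaf).prop_of_iso (R.isoRightDerivedObj (HM h) p)
      ((SheafOfModules.isQuasicoherent Y.ringCatSheaf).prop_of_iso
        ((SpSeqLib.rightDerivedCongr (hmIso h) p).app M).symm (isQCoh_rightDerived_out V₂.ι M hM p))
  refine (SheafOfModules.isQuasicoherent Y.ringCatSheaf).prop_of_iso (R.isoRightDerivedObj (GM h) q).symm ?_
  change Coh.IsQCoh (S.X₁.homology q)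
  cases q with
  | zero =>
    haveI : Mono S.f := hS.mono_f
    haveI : Mono (HomologicalComplex.homologyMap S.f 0) := by
      haveI : Mono (HomologicalComplex.cyclesMap S.f 0) := by
        haveI : Mono (HomologicalComplex.cyclesMap S.f 0 ≫ S.X₂.iCycles 0) := by
          rw [HomologicalComplex.cyclesMap_i]; exact mono_comp _ _
        exact mono_of_mono _ (S.X₂.iCycles 0)
      haveI : Mono (S.X₁.isoHomologyπ₀.hom ≫ HomologicalComplex.homologyMap S.f 0) := by
        rw [show S.X₁.isoHomologyπ₀.hom ≫ HomologicalComplex.homologyMap S.f 0 =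
          HomologicalComplex.cyclesMap S.f 0 ≫ S.X₂.isoHomologyπ₀.hom from HomologicalComplex.homologyπ_naturality S.f 0]
        exact mono_comp _ _
      have e : HomologicalComplex.homologyMap S.f 0 =
          S.X₁.isoHomologyπ₀.inv ≫ S.X₁.isoHomologyπ₀.hom ≫ HomologicalComplex.homologyMap S.f 0 :=
        (Iso.inv_hom_id_assoc _ _).symm
      rw [e]
      exact mono_comp _ _
    exact (SheafOfModules.isQuasicoherent Y.ringCatSheaf).prop_of_iso
      (IsLimit.conePointUniqueUpToIso (hS.homology_exact₂ 0).fIsKernel (limit.isLimit _)).symm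
      (QCohLib.isQCoh_image (HomologicalComplex.homologyMap S.g 0) (h2 0) (h3 0)).1
  | succ p =>
    exact isQCoh_middle _ _ _ _ _ _ _ (hS.homology_exact₃ p (p + 1) rfl) (hS.homology_exact₁ p (p + 1) rfl)
      (hS.homology_exact₂ (p + 1)) (h2 p) (h3 p) (h2 (p + 1)) (h3 (p + 1))

/-- The abelian sheaf underlying `GM`. -/
def gmToAbIso : GM h ⋙ QCohLib.toAbF Y ≅ QCohLib.toAbF Y ⋙ SuppFam.sectSuppLC (X := Y.carrier) h :=
  let W := CohTop.restrFunctor V₁
  let P := CohTop.push (CohCx.incl V₁)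
  let S := LocCohZ.sectSuppF (X := TopCat.of V₁) (SuppFam.inOpen (X := Y.carrier) V₁ V₂)
  let T₁ := QCohLib.toAbF (V₁ : Scheme.{u})
  let R := Scheme.Modules.restrictFunctor V₁.ι
  let ep : Scheme.Modules.pushforward V₁.ι ⋙ QCohLib.toAbF Y ≅ T₁ ⋙ P :=
    NatIso.ofComponents (fun _ => Iso.refl _) (fun {_ _} _ => (Category.comp_id _).trans (Category.id_comp _).symm)
  let er : R ⋙ T₁ ≅ QCohLib.toAbF Y ⋙ W :=
    NatIso.ofComponents (fun _ => Iso.refl _) (fun {_ _} _ => (Category.comp_id _).trans (Category.id_comp _).symm)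
  let eg : DCoh.gammaZ (Y.homOfLE h) ⋙ T₁ ≅ T₁ ⋙ S :=
    gammaZToAbIso (Y.homOfLE h) ≪≫ Functor.isoWhiskerLeft _ (eqToIso
      (congrArg (fun O => LocCohZ.sectSuppF (X := TopCat.of V₁) O) (Y.opensRange_homOfLE h)))
  Functor.associator R (DCoh.gammaZ (Y.homOfLE h) ⋙ Scheme.Modules.pushforward V₁.ι) (QCohLib.toAbF Y) ≪≫
    Functor.isoWhiskerLeft R (Functor.associator _ _ _ ≪≫ Functor.isoWhiskerLeft _ ep ≪≫
      (Functor.associator _ _ _).symm ≪≫ Functor.isoWhiskerRight eg P ≪≫ Functor.associator T₁ S P) ≪≫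
    (Functor.associator R T₁ (S ⋙ P)).symm ≪≫ Functor.isoWhiskerRight er (S ⋙ P) ≪≫
    Functor.associator (QCohLib.toAbF Y) W (S ⋙ P)

theorem exists_isQCoh_iso [QuasiCompact V₁.ι] [QuasiCompact V₂.ι] (F : Y.Modules) (hF : Coh.IsQCoh F) (i : ℕ) :
    ∃ M : Y.Modules, Coh.IsQCoh M ∧
      Nonempty (Coh.toAb M ≅ (SuppFam.HZshLC (X := Y.carrier) h i).obj (Coh.toAb F)) := by
  haveI : EnoughInjectives Y.Modules := SiteBase.enoughInjectives_sheafOfModules _
  haveI : EnoughInjectives (V₁ : Scheme.{u}).Modules := SiteBase.enoughInjectives_sheafOfModules _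
  haveI : EnoughInjectives (V₂ : Scheme.{u}).Modules := SiteBase.enoughInjectives_sheafOfModules _
  refine ⟨((GM h).rightDerived i).obj F, isQCoh_rightDerived_GM h F hF i, ?_⟩
  exact ⟨((SpSeqLib.rightDerivedPostcompIso (GM h) (QCohLib.toAbF Y) i).symm ≪≫
    SpSeqLib.rightDerivedCongr (gmToAbIso h) i ≪≫
    SpSeqLib.rightDerivedPrecompAcyclicIso (QCohLib.toAbF Y) (SuppFam.sectSuppLC (X := Y.carrier) h) (fun I _ =>
      haveI : TopCat.Sheaf.IsFlasque ((QCohLib.toAbF Y).obj I) :=
        isFlasque_of_surjective _ fun h => RpushLib.surjective_rM_injective I h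
      isAcyclicFor_sectSuppLC h _) i).app F⟩

end Groth.Agent.LocZLib.QCohLC
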