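import Groth.Agent.LocZLib.Derived
import Groth.Agent.LocZLib.SpecSeq

/-!
# The first non-vanishing local cohomology sheaf and its global sections
-/

set_option autoImplicit false
set_option backward.isDefEq.respectTransparency false
set_option linter.style.haveILetI false

universe u v v' u₁ u₂

open CategoryTheory CategoryTheory.Limits TopologicalSpace Opposite CategoryTheory.Abelian Pretriangulated

noncomputable section

namespace Groth.Agent.LocZLib

section General

variable {A : Type u₁} [Category.{v} A] [Abelian A] [EnoughInjectives A]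
  {B : Type u₂} [Category.{v'} B] [Abelian B] (S : A ⥤ B) [S.Additive]

attribute [local instance] HasDerivedCategory.standard

/-- Dimension shifting for right derived functors. -/
theorem nonempty_succ_iso {T : ShortComplex A} (hT : T.ShortExact) (p : ℕ)
    (h0 : IsZero ((S.rightDerived p).obj T.X₂)) (h1 : IsZero ((S.rightDerived (p + 1)).obj T.X₂)) :
    Nonempty ((S.rightDerived p).obj T.X₃ ≅ (S.rightDerived (p + 1)).obj T.X₁) := by
  let T' : Triangle (DerivedCategory.Plus A) := Triangle.mk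
    ((DerivedCategory.Plus.singleFunctor A 0).map T.f)
    ((DerivedCategory.Plus.singleFunctor A 0).map T.g)
    (ObjectProperty.homMk (hT.singleδ ≫ ((DerivedCategory.Plus.ι (C := A)).commShiftIso (1 : ℤ)).inv.app
      ((DerivedCategory.Plus.singleFunctor A 0).obj T.X₁)))
  have hT' : T' ∈ distTriang (DerivedCategory.Plus A) := by
    rw [← (DerivedCategory.Plus.ι (C := A)).map_distinguished_iff]
    refine isomorphic_distinguished _ hT.singleTriangle_distinguished _
      (Triangle.isoMk _ _ (Iso.refl _) (Iso.refl _) (Iso.refl _)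
        ((Category.comp_id _).trans (Category.id_comp _).symm)
        ((Category.comp_id _).trans (Category.id_comp _).symm) ?_)
    refine ((congrArg (_ ≫ ·) ((shiftFunctor (DerivedCategory A) (1 : ℤ)).map_id _)).trans
      (Category.comp_id _)).trans (Eq.trans ?_ (Category.id_comp _).symm)
    exact (Category.assoc _ _ _).trans ((congrArg (hT.singleδ ≫ ·)
      (((DerivedCategory.Plus.ι (C := A)).commShiftIso (1 : ℤ)).inv_hom_id_app
        ((DerivedCategory.Plus.singleFunctor A 0).obj T.X₁))).trans (Category.comp_id _))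
  obtain ⟨e₂⟩ := SpSeqLib.nonempty_rG_single_iso S T.X₂ p
  obtain ⟨e₂'⟩ := SpSeqLib.nonempty_rG_single_iso S T.X₂ (p + 1)
  obtain ⟨e₁⟩ := SpSeqLib.nonempty_rG_single_iso S T.X₁ (p + 1)
  obtain ⟨e₃⟩ := SpSeqLib.nonempty_rG_single_iso S T.X₃ p
  have hn : ((p : ℕ) : ℤ) + 1 = ((p + 1 : ℕ) : ℤ) := by push_cast; rfl
  let δ := (SpSeqLib.rG S).homologySequenceδ T' (p : ℤ) ((p + 1 : ℕ) : ℤ) hn
  haveI : Mono δ := ((SpSeqLib.rG S).homologySequence_exact₃ T' hT' (p : ℤ) ((p + 1 : ℕ) : ℤ) hn).mono_g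
    ((h0.of_iso e₂).eq_of_src _ _)
  haveI : Epi δ := ((SpSeqLib.rG S).homologySequence_exact₁ T' hT' (p : ℤ) ((p + 1 : ℕ) : ℤ) hn).epi_f
    ((h1.of_iso e₂').eq_of_tgt _ _)
  haveI : IsIso δ := isIso_of_mono_of_epi δ
  exact ⟨e₃.symm ≪≫ asIso δ ≪≫ e₁⟩

end General

variable {X : TopCat.{u}} (U : Opens X)

/-- Sections over the whole space are maps out of the free sheaf. -/
theorem nonempty_sect_sectSupp_equiv (F : CohTop.Ab X) :
    Nonempty (((LocCohZ.sectSuppF U).obj F).obj.obj (op ⊤) ≃+ LocCohZ.HZc F 0 U) :=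
  ⟨((CohFree.homEquivSect (Opens.grothendieckTopology X) ⊤ ((LocCohZ.sectSuppF U).obj F)).symm.trans
    ((suppHomIso U).app F).addCommGroupIsoToAddEquiv).trans Ext.addEquiv₀.symm⟩

variable {T : ShortComplex (CohTop.Ab X)} (hT : T.ShortExact) [Injective T.X₂]
  (hI : Mono ((outsideUnit U).app T.X₂))

include hT hI in
theorem nonempty_HZ_shift_equiv (V : Opens X) (i : ℕ) :
    Nonempty (LocCohZ.HZ T.X₃ i (inf_le_left : V ⊓ U ≤ V) ≃+
      LocCohZ.HZ T.X₁ (i + 1) (inf_le_left : V ⊓ U ≤ V)) :=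
  ⟨AddEquiv.ofBijective (AddMonoidHom.mk' (fun z => Ext.comp z hT.extClass rfl) fun a b => Ext.add_comp a b _ rfl)
    ⟨(injective_iff_map_eq_zero _).2 fun z hz => injective_postcomp_extClass U hT hI V i z hz, fun z =>
      Ext.covariant_sequence_exact₁ _ hT z ((subsingleton_HZ_X₂ U hI V (i + 1)).elim _ _) rfl⟩⟩

include hT hI in
theorem nonempty_HZsh_shift_iso (i : ℕ) :
    Nonempty ((LocCohZ.HZsh U i).obj T.X₃ ≅ (LocCohZ.HZsh U (i + 1)).obj T.X₁) := by
  refine nonempty_succ_iso (LocCohZ.sectSuppF U) hT i ?_ ((LocCohZ.sectSuppF U).isZero_rightDerived_obj_injective_succ i T.X₂)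
  cases i with
  | zero => exact (isZero_HZsh_zero_iff U _).mpr ((mono_unit_iff U _).mp hI)
  | succ n => exact (LocCohZ.sectSuppF U).isZero_rightDerived_obj_injective_succ n T.X₂

omit [Injective T.X₂] in
theorem nonempty_HZ_congr (F : CohTop.Ab X) (i : ℕ) {W W' V : Opens X} (e : W = W') (h : W ≤ V) (h' : W' ≤ V) :
    Nonempty (LocCohZ.HZ F i h ≃+ LocCohZ.HZ F i h') := by
  subst e
  exact ⟨AddEquiv.refl _⟩

omit [Injective T.X₂] in
/-- Below-degree vanishing identifies global sections of the sheaf with cohomology with supports. -/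
theorem nonempty_sect_HZsh_equiv : ∀ (d : ℕ) (F : CohTop.Ab X),
    (∀ i, i < d → IsZero ((LocCohZ.HZsh U i).obj F)) →
    Nonempty (((LocCohZ.HZsh U d).obj F).obj.obj (op ⊤) ≃+ LocCohZ.HZ F d (inf_le_left : ⊤ ⊓ U ≤ ⊤))
  | 0, F, _ => by
    obtain ⟨e⟩ := nonempty_sect_sectSupp_equiv U F
    obtain ⟨e'⟩ := nonempty_HZ_congr F 0 (top_inf_eq U).symm (le_top : U ≤ ⊤) inf_le_left
    exact ⟨(((sheafToPresheaf _ _ ⋙ (evaluation _ _).obj (op ⊤)).mapIso
      ((LocCohZ.sectSuppF U).rightDerivedZeroIsoSelf.app F)).addCommGroupIsoToAddEquiv.trans e).trans e'⟩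
  | d + 1, F, h => by
    obtain ⟨T, hT, rfl, hinj, hI⟩ := exists_embedding U F
      ((mono_unit_iff U F).mpr ((isZero_HZsh_zero_iff U F).mp (h 0 d.succ_pos)))
    haveI := hinj
    obtain ⟨e⟩ := nonempty_sect_HZsh_equiv d T.X₃
      (fun i hi => (isZero_HZsh_shift U hT hI i).mp (h (i + 1) (by omega)))
    obtain ⟨a⟩ := nonempty_HZsh_shift_iso U hT hI d
    obtain ⟨b⟩ := nonempty_HZ_shift_equiv U hT hI ⊤ d
    exact ⟨(((sheafToPresheaf _ _ ⋙ (evaluation _ _).obj (op ⊤)).mapIso
      a.symm).addCommGroupIsoToAddEquiv.trans e).trans b⟩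

end Groth.Agent.LocZLib
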