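import Groth.Agent.LocZLib.SheafLC
import Groth.Agent.LocZLib.SpecSeq
import Groth.Agent.LocZLib.Excision
import Groth.Agent.LocZLib.Basis
import Groth.Agent.SpSeqLib.DerivedComp
import Groth.Agent.KFlat.Exact

/-!
# Local cohomology sheaves are the sheafified groups with supports
-/

set_option autoImplicit false
set_option backward.isDefEq.respectTransparency false
set_option linter.style.haveILetI false

universe u

open CategoryTheory CategoryTheory.Limits TopologicalSpace Opposite CategoryTheory.Abelian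

noncomputable section

namespace Groth.Agent.LocZLib.PreSheaf

variable {X : TopCat.{u}} {W V : Opens X} (h : W ≤ V)

/-- The sheaves `ℤ_{(V ∩ T) ∖ W}`. -/
def Q : Opens X ⥤ CohTop.Ab X where
  obj T := LocCohZ.zq (inf_le_inf_right T h : W ⊓ T ≤ V ⊓ T)
  map {T T'} f := LocCohZ.zqMap (inf_le_inf_right T' h) (inf_le_inf_right T h)
    (inf_le_inf_left W (leOfHom f)) (inf_le_inf_left V (leOfHom f))
  map_id T := SuppFam.zqMap_id _
  map_comp {T T' T''} f g := (SuppFam.zqMap_comp (inf_le_inf_right T'' h) (inf_le_inf_right T' h)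
    (inf_le_inf_right T h) (inf_le_inf_left W (leOfHom g)) (inf_le_inf_left V (leOfHom g))
    (inf_le_inf_left W (leOfHom f)) (inf_le_inf_left V (leOfHom f))).symm

/-- The presheaf of sections with supports, as homomorphisms. -/
def preHom : CohTop.Ab X ⥤ ((Opens X)ᵒᵖ ⥤ AddCommGrpCat.{u}) where
  obj F :=
    { obj := fun T => AddCommGrpCat.of ((Q h).obj T.unop ⟶ F)
      map := fun g => AddCommGrpCat.ofHom (Preadditive.leftComp F ((Q h).map g.unop))
      map_id := fun T => by
        refine AddCommGrpCat.hom_ext (AddMonoidHom.ext fun φ => ?_)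
        exact (congrArg (· ≫ φ) ((Q h).map_id T.unop)).trans (Category.id_comp φ)
      map_comp := fun g g' => by
        refine AddCommGrpCat.hom_ext (AddMonoidHom.ext fun φ => ?_)
        exact (congrArg (· ≫ φ) ((Q h).map_comp g'.unop g.unop)).trans (Category.assoc _ _ φ) }
  map {F G} a :=
    { app := fun T => AddCommGrpCat.ofHom (Preadditive.rightComp ((Q h).obj T.unop) a)
      naturality := fun T T' g => by
        refine AddCommGrpCat.hom_ext (AddMonoidHom.ext fun φ => ?_)
        exact Category.assoc ((Q h).map g.unop) (φ : (Q h).obj T.unop ⟶ F) a }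
  map_id F := by
    refine NatTrans.ext (funext fun T => AddCommGrpCat.hom_ext (AddMonoidHom.ext fun φ => ?_))
    exact Category.comp_id (φ : (Q h).obj T.unop ⟶ F)
  map_comp a b := by
    refine NatTrans.ext (funext fun T => AddCommGrpCat.hom_ext (AddMonoidHom.ext fun φ => ?_))
    exact (Category.assoc (φ : (Q h).obj T.unop ⟶ _) a b).symm

instance additive_preHom : (preHom h).Additive where
  map_add {F G a b} := by
    refine NatTrans.ext (funext fun T => AddCommGrpCat.hom_ext (AddMonoidHom.ext fun φ => ?_))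
    exact Preadditive.comp_add _ _ _ φ a b

theorem sect_eq (F : CohTop.Ab X) (T : Opens X) :
    V.isOpenEmbedding.isOpenMap.functor.obj ((Opens.map (CohCx.incl V)).obj T) = V ⊓ T :=
  (functor_map_eq V T).trans (inf_comm _ _)

/-- Sections of the sheaf with supports. -/
def toSect (F : CohTop.Ab X) (T : Opens X) :
    ((SuppFam.sectSuppLC h).obj F).obj.obj (op T) →+ F.obj.obj (op (V ⊓ T)) :=
  (F.obj.map (eqToHom (sect_eq (V := V) F T).symm).op).hom.comp
    (((suppι (SuppFam.inOpen V W)).app ((CohTop.restrFunctor V).obj F)).hom.app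
      (op ((Opens.map (CohCx.incl V)).obj T))).hom

theorem toSect_injective (F : CohTop.Ab X) (T : Opens X) : Function.Injective (toSect h F T) :=
  ((AddCommGrpCat.mono_iff_injective (F.obj.map (eqToHom (sect_eq (V := V) F T).symm).op)).mp inferInstance).comp
    (injective_suppι_app _ _ _)

theorem mem_range_toSect_iff (F : CohTop.Ab X) (T : Opens X) (s : F.obj.obj (op (V ⊓ T))) :
    (∃ t, toSect h F T t = s) ↔ s ∈ LocCohZ.sectZ F (inf_le_inf_right T h : W ⊓ T ≤ V ⊓ T) := by
  let T' := (Opens.map (CohCx.incl V)).obj T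
  let e := sect_eq (V := V) F T
  let j := V.isOpenEmbedding.isOpenMap.functor.obj (T' ⊓ SuppFam.inOpen V W)
  have hj : j = W ⊓ T := by
    apply Opens.ext
    ext x
    constructor
    · rintro ⟨b, ⟨hT, hW⟩, rfl⟩
      exact ⟨hW, hT⟩
    · rintro ⟨hW, hT⟩
      exact ⟨⟨x, h hW⟩, ⟨hT, hW⟩, rfl⟩
  let s' := F.obj.map (eqToHom e).op s
  have hs : F.obj.map (eqToHom e.symm).op s' = s := (rres (eqToHom e) (eqToHom e.symm) (𝟙 _) s).trans (rres_self _ s)
  have key : (∃ t, ((suppι (SuppFam.inOpen V W)).app ((CohTop.restrFunctor V).obj F)).hom.app (op T') t = s') ↔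
      F.obj.map (V.isOpenEmbedding.isOpenMap.functor.map (homOfLE (inf_le_left : T' ⊓ SuppFam.inOpen V W ≤ T'))).op s' = 0 :=
    mem_range_suppι_iff (SuppFam.inOpen V W) ((CohTop.restrFunctor V).obj F) T' s'
  have hz : F.obj.map (V.isOpenEmbedding.isOpenMap.functor.map (homOfLE (inf_le_left : T' ⊓ SuppFam.inOpen V W ≤ T'))).op s' = 0 ↔
      s ∈ LocCohZ.sectZ F (inf_le_inf_right T h : W ⊓ T ≤ V ⊓ T) := by
    rw [AddMonoidHom.mem_ker]
    change F.obj.map _ (F.obj.map (eqToHom e).op s) = 0 ↔ F.obj.map _ s = 0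
    rw [rres (eqToHom e) _ (homOfLE ((le_of_eq hj).trans (inf_le_inf_right T h)) : j ⟶ V ⊓ T)]
    constructor
    · intro h0
      rw [← rres (homOfLE ((le_of_eq hj).trans (inf_le_inf_right T h)) : j ⟶ V ⊓ T) (eqToHom hj.symm) _ s]
      exact (congrArg _ h0).trans (map_zero _)
    · intro h0
      rw [← rres (homOfLE (inf_le_inf_right T h)) (eqToHom hj) _ s]
      exact (congrArg _ h0).trans (map_zero _)
  rw [← hz, ← key]
  constructor
  · rintro ⟨t, rfl⟩
    exact ⟨t, ((rres (eqToHom e.symm) (eqToHom e) (𝟙 _) _).trans (rres_self _ _)).symm⟩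
  · rintro ⟨t, ht⟩
    exact ⟨t, (congrArg (F.obj.map (eqToHom e.symm).op) ht).trans hs⟩

/-- The presheaf of sections with supports is the underlying presheaf of the sheaf with supports. -/
def appHom (F : CohTop.Ab X) (T : Opens X) :
    ((SuppFam.sectSuppLC h).obj F).obj.obj (op T) →+ ((Q h).obj T ⟶ F) :=
  (homZqEquiv (inf_le_inf_right T h) F).symm.toAddMonoidHom.comp
    ((toSect h F T).codRestrict _ fun t => (mem_range_toSect_iff h F T _).1 ⟨t, rfl⟩)

theorem homZq_appHom (F : CohTop.Ab X) (T : Opens X) (t : ((SuppFam.sectSuppLC h).obj F).obj.obj (op T)) :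
    ((homZqEquiv (inf_le_inf_right T h) F) (appHom h F T t)).1 = toSect h F T t :=
  congrArg Subtype.val ((homZqEquiv (inf_le_inf_right T h) F).apply_symm_apply _)

theorem appHom_bijective (F : CohTop.Ab X) (T : Opens X) : Function.Bijective (appHom h F T) := by
  refine ⟨fun a b hab => toSect_injective h F T ?_, fun φ => ?_⟩
  · rw [← homZq_appHom, ← homZq_appHom, hab]
  · obtain ⟨t, ht⟩ := (mem_range_toSect_iff h F T _).2 ((homZqEquiv (inf_le_inf_right T h) F) φ).2
    exact ⟨t, (homZqEquiv (inf_le_inf_right T h) F).injective (Subtype.ext ((homZq_appHom h F T t).trans ht))⟩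

theorem homZq_map (F : CohTop.Ab X) {T T' : Opens X} (g : T' ⟶ T) (φ : (Q h).obj T ⟶ F) :
    ((homZqEquiv (inf_le_inf_right T' h) F) ((Q h).map g ≫ φ)).1 =
      F.obj.map (homOfLE (inf_le_inf_left V (leOfHom g))).op
        ((homZqEquiv (inf_le_inf_right T h) F) φ).1 := by
  rw [homZqEquiv_apply, homZqEquiv_apply, ← CohFree.evalGen_freeSheafMap_comp, ← Category.assoc]
  have e : cokernel.π (CohCx.freeSheafMap (Opens.grothendieckTopology X) (homOfLE (inf_le_inf_right T' h))) ≫ (Q h).map g =
      CohCx.freeSheafMap (Opens.grothendieckTopology X) (homOfLE (inf_le_inf_left V (leOfHom g))) ≫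
        cokernel.π (CohCx.freeSheafMap (Opens.grothendieckTopology X) (homOfLE (inf_le_inf_right T h))) :=
    cokernel.π_desc _ _ _
  rw [e, Category.assoc]

theorem toSect_map (F : CohTop.Ab X) {T T' : Opens X} (g : T' ⟶ T) (t : ((SuppFam.sectSuppLC h).obj F).obj.obj (op T)) :
    toSect h F T' (((SuppFam.sectSuppLC h).obj F).obj.map g.op t) =
      F.obj.map (homOfLE (inf_le_inf_left V (leOfHom g))).op (toSect h F T t) := by
  let G := (CohTop.restrFunctor V).obj F
  let g' := (Opens.map (CohCx.incl V)).map g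
  have h1 : ((suppι (SuppFam.inOpen V W)).app G).hom.app (op _) (((LocCohZ.sectSuppF (SuppFam.inOpen V W)).obj G).obj.map g'.op t) =
      G.obj.map g'.op (((suppι (SuppFam.inOpen V W)).app G).hom.app (op _) t) :=
    ConcreteCategory.congr_hom (((suppι (SuppFam.inOpen V W)).app G).hom.naturality g'.op) t
  change F.obj.map _ (((suppι (SuppFam.inOpen V W)).app G).hom.app _ (((LocCohZ.sectSuppF (SuppFam.inOpen V W)).obj G).obj.map g'.op t)) =
    F.obj.map _ (F.obj.map _ (((suppι (SuppFam.inOpen V W)).app G).hom.app _ t))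
  rw [h1]
  exact (rres _ _ (homOfLE (le_of_eq_of_le (sect_eq (V := V) F T').symm (leOfHom
    (V.isOpenEmbedding.isOpenMap.functor.map g')))) _).trans (rres _ _ _ _).symm

/-- Sections with supports, as presheaves. -/
theorem toSect_natural {F G : CohTop.Ab X} (a : F ⟶ G) (T : Opens X) (t : ((SuppFam.sectSuppLC h).obj F).obj.obj (op T)) :
    toSect h G T (((SuppFam.sectSuppLC h).map a).hom.app (op T) t) = a.hom.app (op (V ⊓ T)) (toSect h F T t) := by
  let a' := (CohTop.restrFunctor V).map a
  have h1 : ((suppι (SuppFam.inOpen V W)).app ((CohTop.restrFunctor V).obj G)).hom.app (op ((Opens.map (CohCx.incl V)).obj T))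
      (((LocCohZ.sectSuppF (SuppFam.inOpen V W)).map a').hom.app _ t) =
      a'.hom.app _ (((suppι (SuppFam.inOpen V W)).app ((CohTop.restrFunctor V).obj F)).hom.app _ t) :=
    ConcreteCategory.congr_hom (congrArg (fun z => z.hom.app (op ((Opens.map (CohCx.incl V)).obj T)))
      ((suppι (SuppFam.inOpen V W)).naturality a')) t
  refine (congrArg (G.obj.map (eqToHom (sect_eq (V := V) G T).symm).op) h1).trans ?_
  exact (ConcreteCategory.congr_hom (a.hom.naturality (eqToHom (sect_eq (V := V) F T).symm).op) _).symm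

def preIso : SuppFam.sectSuppLC h ⋙ sheafToPresheaf _ _ ≅ preHom h :=
  NatIso.ofComponents
    (fun F => (NatIso.ofComponents
      (fun T => (AddEquiv.ofBijective (appHom h F T.unop) (appHom_bijective h F T.unop)).toAddCommGrpIso)
      (fun {T T'} g => by
        refine AddCommGrpCat.hom_ext (AddMonoidHom.ext fun t => ?_)
        apply (homZqEquiv (inf_le_inf_right T'.unop h) F).injective
        apply Subtype.ext
        refine (homZq_appHom h F T'.unop _).trans ((toSect_map h F g.unop t).trans ?_)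
        rw [← homZq_appHom]
        exact (homZq_map h F g.unop _).symm) :
      ((SuppFam.sectSuppLC h).obj F).obj ≅ (preHom h).obj F))
    (fun {F G} a => by
      refine NatTrans.ext (funext fun T => AddCommGrpCat.hom_ext (AddMonoidHom.ext fun t => ?_))
      apply (homZqEquiv (inf_le_inf_right T.unop h) G).injective
      apply Subtype.ext
      refine (homZq_appHom h G T.unop _).trans ((toSect_natural h a T.unop t).trans ?_)
      rw [← homZq_appHom]
      exact (homZqEquiv_natural _ a _).symm)

/-- Sheafifying the presheaf of sections with supports. -/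
def preHomSheafifyIso :
    preHom h ⋙ presheafToSheaf (Opens.grothendieckTopology X) AddCommGrpCat.{u} ≅ SuppFam.sectSuppLC h :=
  Functor.isoWhiskerRight (preIso h).symm _ ≪≫ Functor.associator _ _ _ ≪≫
    Functor.isoWhiskerLeft _ (asIso (sheafificationAdjunction (Opens.grothendieckTopology X) AddCommGrpCat.{u}).counit) ≪≫
    Functor.rightUnitor _

/-- Degree zero: the groups with supports are the homomorphisms. -/
def preHomZeroIso (F : CohTop.Ab X) : (preHom h).obj F ≅ SuppFam.HZpre F 0 h :=
  NatIso.ofComponents (fun _ => (Ext.addEquiv₀ (C := CohTop.Ab X)).symm.toAddCommGrpIso)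
    (fun {T T'} g => by
      refine AddCommGrpCat.hom_ext (AddMonoidHom.ext fun φ => ?_)
      exact (Ext.mk₀_comp_mk₀ ((Q h).map g.unop) (φ : (Q h).obj T.unop ⟶ F)).symm)

section Succ

variable {F : CohTop.Ab X} (R : InjectiveResolution F) (p : ℕ)

/-- Three consecutive terms of the presheaves of sections with supports of a resolution. -/
abbrev preCx : ShortComplex ((Opens X)ᵒᵖ ⥤ AddCommGrpCat.{u}) :=
  (((preHom h).mapHomologicalComplex (ComplexShape.up ℕ)).obj R.cocomplex).sc' p (p + 1) (p + 2)

theorem cycle_condition (T : (Opens X)ᵒᵖ) (x : (kernel (preCx h R p).g).obj T) :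
    ((kernel.ι (preCx h R p).g).app T x : (Q h).obj T.unop ⟶ R.cocomplex.X (p + 1)) ≫
      R.cocomplex.d (p + 1) (p + 1 + 1) = 0 :=
  ConcreteCategory.congr_hom (congrArg (fun z => z.app T) (kernel.condition (preCx h R p).g)) x

theorem extMk_congr {A : CohTop.Ab X} {n m : ℕ} {f f' : A ⟶ R.cocomplex.X n} (e : f = f') (hm : n + 1 = m)
    (hf : f ≫ R.cocomplex.d n m = 0) (hf' : f' ≫ R.cocomplex.d n m = 0) :
    R.extMk f m hm hf = R.extMk f' m hm hf' := by subst e; rfl

/-- From cocycles to groups with supports. -/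
def cycleToHZ : kernel (preCx h R p).g ⟶ SuppFam.HZpre F (p + 1) h where
  app T := AddCommGrpCat.ofHom (AddMonoidHom.mk' (fun x =>
      R.extMk ((kernel.ι (preCx h R p).g).app T x : (Q h).obj T.unop ⟶ R.cocomplex.X (p + 1)) (p + 1 + 1) rfl
        (cycle_condition h R p T x)) (fun x y => by
      rw [InjectiveResolution.add_extMk]
      exact extMk_congr R (map_add ((kernel.ι (preCx h R p).g).app T).hom x y) rfl _ _))
  naturality {T T'} g := by
    refine AddCommGrpCat.hom_ext (AddMonoidHom.ext fun x => ?_)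
    have e := ConcreteCategory.congr_hom ((kernel.ι (preCx h R p).g).naturality g) x
    refine Eq.trans ?_ (R.mk₀_comp_extMk ((kernel.ι (preCx h R p).g).app T x : (Q h).obj T.unop ⟶ R.cocomplex.X (p + 1))
      (p + 1 + 1) rfl (cycle_condition h R p T x) ((Q h).map g.unop)).symm
    exact extMk_congr R e rfl (cycle_condition h R p T' _) _

theorem surjective_cycleToHZ (T : (Opens X)ᵒᵖ) : Function.Surjective ((cycleToHZ h R p).app T) := by
  intro α
  obtain ⟨f, hf, rfl⟩ := R.extMk_surjective (α : Ext ((Q h).obj T.unop) F (p + 1)) (p + 1 + 1) rfl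
  let S := ShortComplex.mk (kernel.ι (preCx h R p).g) (preCx h R p).g (kernel.condition _)
  have hS : S.Exact := ShortComplex.exact_of_f_is_kernel _ (kernelIsKernel _)
  have hT : (S.map ((evaluation _ AddCommGrpCat.{u}).obj T)).Exact := hS.map _
  obtain ⟨x, hx⟩ := (ShortComplex.ab_exact_iff _).1 hT f hf
  refine ⟨x, ?_⟩
  exact extMk_congr R hx rfl (cycle_condition h R p T x) hf

theorem exact_cycleToHZ :
    ∃ w, (ShortComplex.mk (kernel.lift _ (preCx h R p).f (preCx h R p).zero) (cycleToHZ h R p) w).Exact := by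
  have hl : ∀ T x, (kernel.ι (preCx h R p).g).app T
      ((kernel.lift _ (preCx h R p).f (preCx h R p).zero).app T x) = (preCx h R p).f.app T x := fun T x =>
    ConcreteCategory.congr_hom (congrArg (fun z => z.app T) (kernel.lift_ι (preCx h R p).g (preCx h R p).f (preCx h R p).zero)) x
  have w : kernel.lift _ (preCx h R p).f (preCx h R p).zero ≫ cycleToHZ h R p = 0 := by
    refine NatTrans.ext (funext fun T => AddCommGrpCat.hom_ext (AddMonoidHom.ext fun x => ?_))
    exact (R.extMk_eq_zero_iff _ (p + 1 + 1) rfl (cycle_condition h R p T _) p rfl).2 ⟨x, (hl T x).symm⟩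
  refine ⟨w, KFlat.exact_of_pointwise _ fun T => (ShortComplex.ab_exact_iff _).2 fun x hx => ?_⟩
  obtain ⟨g, hg⟩ := (R.extMk_eq_zero_iff _ (p + 1 + 1) rfl (cycle_condition h R p T x) p rfl).1 hx
  refine ⟨g, ?_⟩
  have hinj : Function.Injective ((kernel.ι (preCx h R p).g).app T) := by
    rw [← AddCommGrpCat.mono_iff_injective]
    infer_instance
  exact hinj ((hl T g).trans hg)

/-- Higher degrees: homology of the presheaves. -/
theorem nonempty_succ_iso : Nonempty ((preCx h R p).homology ≅ SuppFam.HZpre F (p + 1) h) := by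
  obtain ⟨w, hw⟩ := exact_cycleToHZ h R p
  haveI : Epi (cycleToHZ h R p) := by
    haveI : ∀ T, Epi ((cycleToHZ h R p).app T) := fun T =>
      (AddCommGrpCat.epi_iff_surjective _).2 (surjective_cycleToHZ h R p T)
    exact NatTrans.epi_of_epi_app _
  exact ⟨(preCx h R p).homologyIsoCokernelLift ≪≫
    IsColimit.coconePointUniqueUpToIso (colimit.isColimit _) hw.gIsCokernel⟩

end Succ

/-- Local cohomology sheaves are the sheafified groups with supports. -/
theorem nonempty_HZshLC_iso (F : CohTop.Ab X) : ∀ q, Nonempty ((SuppFam.HZshLC h q).obj F ≅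
    (presheafToSheaf (Opens.grothendieckTopology X) AddCommGrpCat.{u}).obj (SuppFam.HZpre F q h))
  | 0 => ⟨(SuppFam.sectSuppLC h).rightDerivedZeroIsoSelf.app F ≪≫ (preHomSheafifyIso h).symm.app F ≪≫
      (presheafToSheaf _ _).mapIso (preHomZeroIso h F)⟩
  | p + 1 => by
    let R := injectiveResolution F
    obtain ⟨e⟩ := nonempty_succ_iso h R p
    refine ⟨(SpSeqLib.rightDerivedCongr (preHomSheafifyIso h).symm (p + 1)).app F ≪≫
      (SpSeqLib.rightDerivedPostcompIso (preHom h) (presheafToSheaf _ _) (p + 1)).app F ≪≫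
      (presheafToSheaf _ _).mapIso (R.isoRightDerivedObj (preHom h) (p + 1) ≪≫
        ShortComplex.homologyMapIso ((((preHom h).mapHomologicalComplex _).obj R.cocomplex).isoSc' p (p + 1) (p + 2)
          (by simp) (by simp)) ≪≫ e)⟩

end Groth.Agent.LocZLib.PreSheaf
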