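import Mathlib
import Groth.Prelude.Def_LocCohZ

/-!
# Mayer–Vietoris for cohomology with supports
-/

set_option backward.isDefEq.respectTransparency false
set_option linter.style.haveILetI false

universe v w u

open CategoryTheory CategoryTheory.Limits Opposite TopologicalSpace Abelian
open scoped ZeroObject

namespace Groth.Agent.LocZLib

/-- Cokernels of a square of subobjects of one object. -/
theorem shortExact_coker {C : Type v} [Category.{w} C] [Abelian C] {A B D E T : C} (ab : A ⟶ B) (ad : A ⟶ D)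
    (be : B ⟶ E) (de : D ⟶ E) (a : A ⟶ T) (b : B ⟶ T) (d : D ⟶ T) (e : E ⟶ T) [Mono a] [Mono b] [Mono d] [Mono e]
    (hab : ab ≫ b = a) (had : ad ≫ d = a) (hbe : be ≫ e = b) (hde : de ≫ e = d)
    (z : biprod.lift ab (-ad) ≫ biprod.desc be de = 0)
    (hS : (ShortComplex.mk _ _ z).ShortExact)
    (m₁ : cokernel a ⟶ cokernel b) (m₂ : cokernel a ⟶ cokernel d) (n₁ : cokernel b ⟶ cokernel e)
    (n₂ : cokernel d ⟶ cokernel e)
    (h₁ : cokernel.π a ≫ m₁ = cokernel.π b) (h₂ : cokernel.π a ≫ m₂ = cokernel.π d)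
    (h₃ : cokernel.π b ≫ n₁ = cokernel.π e) (h₄ : cokernel.π d ≫ n₂ = cokernel.π e) :
    ∃ z' : biprod.lift m₁ (-m₂) ≫ biprod.desc n₁ n₂ = 0, (ShortComplex.mk _ _ z').ShortExact := by
  have z' : biprod.lift m₁ (-m₂) ≫ biprod.desc n₁ n₂ = 0 := by
    apply coequalizer.hom_ext
    simp [reassoc_of% h₁, reassoc_of% h₂, h₃, h₄]
  have z2 : biprod.lift (𝟙 T) (-𝟙 T) ≫ biprod.desc (𝟙 T) (𝟙 T) = 0 := by simp
  let L₁ := ShortComplex.mk _ _ z
  let L₂ := ShortComplex.mk _ _ z2
  let L₃ := ShortComplex.mk _ _ z'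
  have hL₂ : L₂.ShortExact :=
    ShortComplex.Splitting.shortExact
      { r := biprod.fst
        s := biprod.inr
        f_r := by simp [L₂]
        s_g := by simp [L₂]
        id := by
          apply biprod.hom_ext' <;> apply biprod.hom_ext <;> simp [L₂] }
  let v₁₂ : L₁ ⟶ L₂ :=
    { τ₁ := a
      τ₂ := biprod.map b d
      τ₃ := e
      comm₁₂ := by apply biprod.hom_ext <;> simp [L₁, L₂, hab, had]
      comm₂₃ := by apply biprod.hom_ext' <;> simp [L₁, L₂, hbe, hde] }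
  let v₂₃ : L₂ ⟶ L₃ :=
    { τ₁ := cokernel.π a
      τ₂ := biprod.map (cokernel.π b) (cokernel.π d)
      τ₃ := cokernel.π e
      comm₁₂ := by apply biprod.hom_ext <;> simp [L₂, L₃, h₁, h₂]
      comm₂₃ := by apply biprod.hom_ext' <;> simp [L₂, L₃, h₃, h₄] }
  let O : ShortComplex C := ShortComplex.mk (0 : (0 : C) ⟶ 0) (0 : (0 : C) ⟶ 0) zero_comp
  have hO : IsZero O := by
    rw [IsZero.iff_id_eq_zero]
    refine ShortComplex.hom_ext _ _ ?_ ?_ ?_ <;> exact (isZero_zero C).eq_of_src _ _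
  haveI : Mono v₁₂ := by
    haveI : Mono v₁₂.τ₁ := inferInstanceAs (Mono a)
    haveI : Mono v₁₂.τ₃ := inferInstanceAs (Mono e)
    haveI : Mono v₁₂.τ₂ := inferInstanceAs (Mono (biprod.map b d))
    exact ⟨fun p q h => by
      refine ShortComplex.hom_ext _ _ ?_ ?_ ?_
      · exact (cancel_mono v₁₂.τ₁).1 (congrArg ShortComplex.Hom.τ₁ h)
      · exact (cancel_mono v₁₂.τ₂).1 (congrArg ShortComplex.Hom.τ₂ h)
      · exact (cancel_mono v₁₂.τ₃).1 (congrArg ShortComplex.Hom.τ₃ h)⟩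
  have w : v₁₂ ≫ v₂₃ = 0 := by
    refine ShortComplex.hom_ext _ _ ?_ ?_ ?_
    · simp [v₁₂, v₂₃]
    · apply biprod.hom_ext <;> simp [v₁₂, v₂₃]
    · simp [v₁₂, v₂₃]
  let S : ShortComplex.SnakeInput C :=
    { L₀ := O
      L₁ := L₁
      L₂ := L₂
      L₃ := L₃
      v₀₁ := 0
      v₁₂ := v₁₂
      v₂₃ := v₂₃
      w₀₂ := zero_comp
      w₁₃ := w
      h₀ := KernelFork.IsLimit.ofι _ _ (fun _ _ => 0)
        (fun g hg => (cancel_mono v₁₂).1 (by rw [zero_comp, zero_comp]; exact hg.symm))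
        (fun _ _ _ _ => hO.eq_of_tgt _ _)
      h₃ := CokernelCofork.IsColimit.ofπ _ _
        (fun {W} k hk =>
          { τ₁ := cokernel.desc a k.τ₁ (congrArg ShortComplex.Hom.τ₁ hk)
            τ₂ := biprod.desc
              (cokernel.desc b (biprod.inl ≫ k.τ₂) (by
                have h := congrArg (biprod.inl ≫ ·) (congrArg ShortComplex.Hom.τ₂ hk)
                simpa [v₁₂] using h))
              (cokernel.desc d (biprod.inr ≫ k.τ₂) (by
                have h := congrArg (biprod.inr ≫ ·) (congrArg ShortComplex.Hom.τ₂ hk)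
                simpa [v₁₂] using h))
            τ₃ := cokernel.desc e k.τ₃ (congrArg ShortComplex.Hom.τ₃ hk)
            comm₁₂ := by
              apply coequalizer.hom_ext
              have h := k.comm₁₂
              simp [L₂] at h
              simp [L₃, reassoc_of% h₁, reassoc_of% h₂, h]
              simp [biprod.lift_eq]
            comm₂₃ := by
              have h := k.comm₂₃
              simp [L₂] at h
              apply biprod.hom_ext' <;> apply coequalizer.hom_ext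
              · have h' := congrArg (biprod.inl ≫ ·) h
                simp at h'
                simp [L₃, reassoc_of% h₃, h']
              · have h' := congrArg (biprod.inr ≫ ·) h
                simp at h'
                simp [L₃, reassoc_of% h₄, h'] })
        (fun k hk => by
          refine ShortComplex.hom_ext _ _ ?_ ?_ ?_
          · simp [v₂₃]
          · apply biprod.hom_ext' <;> simp [v₂₃]
          · simp [v₂₃])
        (fun k hk m hm => by
          refine ShortComplex.hom_ext _ _ ?_ ?_ ?_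
          · apply coequalizer.hom_ext
            have h := congrArg ShortComplex.Hom.τ₁ hm
            simpa [v₂₃] using h
          · apply biprod.hom_ext' <;> apply coequalizer.hom_ext
            · have h := congrArg (biprod.inl ≫ ·) (congrArg ShortComplex.Hom.τ₂ hm)
              simpa [v₂₃] using h
            · have h := congrArg (biprod.inr ≫ ·) (congrArg ShortComplex.Hom.τ₂ hm)
              simpa [v₂₃] using h
          · apply coequalizer.hom_ext
            have h := congrArg ShortComplex.Hom.τ₃ hm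
            simpa [v₂₃] using h)
      L₁_exact := hS.exact
      epi_L₁_g := hS.epi_g
      L₂_exact := hL₂.exact
      mono_L₂_f := hL₂.mono_f }
  refine ⟨z', { exact := S.L₃_exact, mono_f := ?_, epi_g := ?_ }⟩
  · exact S.L₂'_exact.mono_g ((isZero_zero C).eq_of_src _ _)
  · haveI : Epi (biprod.inl ≫ biprod.desc n₁ n₂) := by
      rw [biprod.inl_desc]
      haveI : Epi (cokernel.π b ≫ n₁) := by rw [h₃]; infer_instance
      exact epi_of_epi (cokernel.π b) n₁
    exact epi_of_epi biprod.inl _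

variable {X : TopCat.{u}}

/-- The short exact sequence of the quotient sheaves of two opens. -/
theorem exists_zq_shortExact (U U' : Opens X) :
    ∃ z : biprod.lift (LocCohZ.zqMap (le_top : U ≤ ⊤) (le_top : U ⊓ U' ≤ ⊤) inf_le_left le_rfl)
        (-LocCohZ.zqMap (le_top : U' ≤ ⊤) (le_top : U ⊓ U' ≤ ⊤) inf_le_right le_rfl) ≫
      biprod.desc (LocCohZ.zqMap (le_top : U ⊔ U' ≤ ⊤) (le_top : U ≤ ⊤) le_sup_left le_rfl)
        (LocCohZ.zqMap (le_top : U ⊔ U' ≤ ⊤) (le_top : U' ≤ ⊤) le_sup_right le_rfl) = 0,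
      (ShortComplex.mk _ _ z).ShortExact := by
  let J := Opens.grothendieckTopology X
  let F := fun {W V : Opens X} (h : W ≤ V) => CohCx.freeSheafMap J (homOfLE h)
  have hmono : ∀ W : Opens X, Mono (F (le_top : W ≤ ⊤)) := fun W =>
    (LocCohZ.zqSeq_shortExact (le_top : W ≤ ⊤)).mono_f
  haveI := hmono U; haveI := hmono U'; haveI := hmono (U ⊓ U'); haveI := hmono (U ⊔ U')
  have hc : ∀ {P Q R : Opens X} (h : P ≤ Q) (h' : Q ≤ R), F h ≫ F h' = F (h.trans h') := fun h h' =>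
    (CohFree.freeSheafMap_comp _ _ _).symm
  have hid : CohCx.freeSheafMap J (homOfLE (le_refl (⊤ : Opens X))) = 𝟙 _ := by
    show (presheafToSheaf J _).map (Functor.whiskerRight (yoneda.map (homOfLE (le_refl (⊤ : Opens X)))) _) = 𝟙 _
    rw [show homOfLE (le_refl (⊤ : Opens X)) = 𝟙 _ from rfl, yoneda.map_id]
    exact (congrArg _ (Functor.whiskerRight_id' _)).trans ((presheafToSheaf J _).map_id _)
  have hπ : ∀ {W W' : Opens X} (hW : W' ≤ W),
      cokernel.π (F (le_top : W' ≤ ⊤)) ≫ LocCohZ.zqMap (le_top : W ≤ ⊤) (le_top : W' ≤ ⊤) hW le_rfl =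
        cokernel.π (F (le_top : W ≤ ⊤)) := fun {W W'} hW => by
    refine (cokernel.π_desc _ _ _).trans ?_
    rw [hid]
    exact Category.id_comp _
  exact shortExact_coker (F inf_le_left) (F inf_le_right) (F le_sup_left) (F le_sup_right)
    (F le_top) (F le_top) (F le_top) (F le_top) (hc _ _) (hc _ _) (hc _ _) (hc _ _)
    (Opens.mayerVietorisSquare U U').shortComplex.zero
    (Opens.mayerVietorisSquare U U').shortComplex_shortExact _ _ _ _
    (hπ inf_le_left) (hπ inf_le_right) (hπ le_sup_left) (hπ le_sup_right)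

end Groth.Agent.LocZLib

namespace Groth.Agent.LocZLib

/-- The long exact sequence of a short exact sequence with a biproduct in the middle. -/
theorem exists_delta {C : Type v} [Category.{w} C] [Abelian C] [HasExt.{u} C] {P B D Q : C} (m₁ : P ⟶ B) (m₂ : P ⟶ D)
    (n₁ : B ⟶ Q) (n₂ : D ⟶ Q) (z : biprod.lift m₁ (-m₂) ≫ biprod.desc n₁ n₂ = 0)
    (hS : (ShortComplex.mk _ _ z).ShortExact) (F : C) :
    Function.Injective (fun x : Ext.{u} Q F 0 =>
      ((Ext.mk₀ n₁).comp x (zero_add 0), (Ext.mk₀ n₂).comp x (zero_add 0))) ∧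
    ∃ δ : ∀ i : ℕ, Ext.{u} P F i →+ Ext.{u} Q F (i + 1), ∀ i : ℕ,
      (∀ y : Ext.{u} B F i × Ext.{u} D F i,
        (Ext.mk₀ m₁).comp y.1 (zero_add i) - (Ext.mk₀ m₂).comp y.2 (zero_add i) = 0 ↔
          ∃ x : Ext.{u} Q F i, (Ext.mk₀ n₁).comp x (zero_add i) = y.1 ∧ (Ext.mk₀ n₂).comp x (zero_add i) = y.2) ∧
      (∀ w, δ i w = 0 ↔ ∃ y : Ext.{u} B F i × Ext.{u} D F i,
        (Ext.mk₀ m₁).comp y.1 (zero_add i) - (Ext.mk₀ m₂).comp y.2 (zero_add i) = w) ∧
      (∀ x : Ext.{u} Q F (i + 1), ((Ext.mk₀ n₁).comp x (zero_add _) = 0 ∧ (Ext.mk₀ n₂).comp x (zero_add _) = 0) ↔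
        ∃ w, δ i w = x) := by
  let S := ShortComplex.mk _ _ z
  have hfst : ∀ {i} (y : Ext.{u} B F i), (Ext.mk₀ (biprod.inl : B ⟶ B ⊞ D)).comp
      ((Ext.mk₀ biprod.fst).comp y (zero_add i)) (zero_add i) = y := fun y => by simp
  have hf : ∀ {i} (t : Ext.{u} (B ⊞ D) F i), (Ext.mk₀ S.f).comp t (zero_add i) =
      (Ext.mk₀ m₁).comp ((Ext.mk₀ biprod.inl).comp t (zero_add i)) (zero_add i) -
      (Ext.mk₀ m₂).comp ((Ext.mk₀ biprod.inr).comp t (zero_add i)) (zero_add i) := fun t => by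
    rw [Ext.mk₀_comp_mk₀_assoc, Ext.mk₀_comp_mk₀_assoc, sub_eq_add_neg, ← Ext.neg_comp, ← Ext.add_comp,
      ← Ext.mk₀_neg, ← Ext.mk₀_add]
    congr 2
    simp [S, biprod.lift_eq]
  have hg1 : ∀ {i} (x : Ext.{u} Q F i), (Ext.mk₀ (biprod.inl : B ⟶ B ⊞ D)).comp
      ((Ext.mk₀ S.g).comp x (zero_add i)) (zero_add i) = (Ext.mk₀ n₁).comp x (zero_add i) := fun x => by
    rw [Ext.mk₀_comp_mk₀_assoc]
    exact congrArg (fun t => (Ext.mk₀ t).comp x _) (biprod.inl_desc _ _)
  have hg2 : ∀ {i} (x : Ext.{u} Q F i), (Ext.mk₀ (biprod.inr : D ⟶ B ⊞ D)).comp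
      ((Ext.mk₀ S.g).comp x (zero_add i)) (zero_add i) = (Ext.mk₀ n₂).comp x (zero_add i) := fun x => by
    rw [Ext.mk₀_comp_mk₀_assoc]
    exact congrArg (fun t => (Ext.mk₀ t).comp x _) (biprod.inr_desc _ _)
  have hfg : ∀ {i} (x : Ext.{u} Q F i),
      (Ext.mk₀ S.f).comp ((Ext.mk₀ S.g).comp x (zero_add i)) (zero_add i) = 0 := fun x => by
    rw [Ext.mk₀_comp_mk₀_assoc, S.zero]; simp
  refine ⟨fun x x' h => ?_, fun i => (hS.extClass).precomp F (by omega), fun i => ⟨fun y => ⟨fun hy => ?_, ?_⟩,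
    fun w => ⟨fun hw => ?_, ?_⟩, fun x => ⟨fun hx => ?_, ?_⟩⟩⟩
  · haveI : Epi S.g := hS.epi_g
    obtain ⟨φ, rfl⟩ := Ext.addEquiv₀.symm.surjective x
    obtain ⟨φ', rfl⟩ := Ext.addEquiv₀.symm.surjective x'
    simp only [Ext.addEquiv₀_symm_apply, Ext.mk₀_comp_mk₀, Prod.mk.injEq] at h ⊢
    have h1 := Ext.addEquiv₀.symm.injective (a₁ := n₁ ≫ φ) (a₂ := n₁ ≫ φ') (by simpa using h.1)
    have h2 := Ext.addEquiv₀.symm.injective (a₁ := n₂ ≫ φ) (a₂ := n₂ ≫ φ') (by simpa using h.2)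
    rw [(cancel_epi S.g).1 (show S.g ≫ φ = S.g ≫ φ' by apply biprod.hom_ext' <;> simp [S, h1, h2])]
  · let t : Ext.{u} (B ⊞ D) F i :=
      (Ext.mk₀ biprod.fst).comp y.1 (zero_add i) + (Ext.mk₀ biprod.snd).comp y.2 (zero_add i)
    have t1 : (Ext.mk₀ biprod.inl).comp t (zero_add i) = y.1 := by simp [t]
    have t2 : (Ext.mk₀ biprod.inr).comp t (zero_add i) = y.2 := by simp [t]
    obtain ⟨x, hx⟩ := Ext.contravariant_sequence_exact₂ hS F t (by rw [hf, t1, t2, hy])
    exact ⟨x, (hg1 x).symm.trans ((congrArg (fun e => (Ext.mk₀ biprod.inl).comp e (zero_add i)) hx).trans t1),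
      (hg2 x).symm.trans ((congrArg (fun e => (Ext.mk₀ biprod.inr).comp e (zero_add i)) hx).trans t2)⟩
  · rintro ⟨x, h1, h2⟩
    rw [← h1, ← h2, ← hg1, ← hg2, ← hf, hfg]
  · obtain ⟨t, ht⟩ := Ext.contravariant_sequence_exact₁ hS F w (n₁ := i + 1) (by omega) hw
    exact ⟨((Ext.mk₀ biprod.inl).comp t (zero_add i), (Ext.mk₀ biprod.inr).comp t (zero_add i)),
      (hf t).symm.trans ht⟩
  · rintro ⟨y, rfl⟩
    let t : Ext.{u} (B ⊞ D) F i :=
      (Ext.mk₀ biprod.fst).comp y.1 (zero_add i) + (Ext.mk₀ biprod.snd).comp y.2 (zero_add i)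
    have t1 : (Ext.mk₀ biprod.inl).comp t (zero_add i) = y.1 := by simp [t]
    have t2 : (Ext.mk₀ biprod.inr).comp t (zero_add i) = y.2 := by simp [t]
    rw [← t1, ← t2, ← hf]
    exact (Ext.comp_assoc _ _ _ (by omega) (by omega) (by omega)).symm.trans
      ((congrArg (fun e => Ext.comp e t (by omega : 1 + i = i + 1)) hS.extClass_comp).trans (by simp))
  · let t := (Ext.mk₀ S.g).comp x (zero_add (i + 1))
    have ht : t = 0 := Ext.biprod_ext (by rw [hg1, hx.1, Ext.comp_zero]) (by rw [hg2, hx.2, Ext.comp_zero])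
    obtain ⟨w, hw⟩ := Ext.contravariant_sequence_exact₃ hS F x ht (n₀ := i) (by omega)
    exact ⟨w, hw⟩
  · rintro ⟨w, rfl⟩
    have h0 : (Ext.mk₀ S.g).comp (hS.extClass.precomp F (by omega : 1 + i = i + 1) w) (zero_add _) = 0 :=
      (Ext.comp_assoc _ _ _ (by omega) (by omega) (by omega)).symm.trans
        ((congrArg (fun e => Ext.comp e w (by omega : 1 + i = i + 1)) hS.comp_extClass).trans (by simp))
    exact ⟨by rw [← hg1, h0, Ext.comp_zero], by rw [← hg2, h0, Ext.comp_zero]⟩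

end Groth.Agent.LocZLib
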